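import Mathlib
import Cfsg.Agent.ClassicalGeometry.PSUAutSylow

/-!
# ODD, D4, row `U_n(2)`: involutions of `SU_n(2)`

`hF : |F| = 2 ^ 2`. Elements of `SU n F 2` act on `Fin n → F` (`act`). `Nw w y = w y + y`; `Fx w u : w u = u`;
`Rd w r`: `r` lies in the radical of the fixed space of `w`.
-/

set_option autoImplicit false

namespace Cfsg.Agent.OddHalf.D4.Un2

open Cfsg Cfsg.Agent.LieClassical.HermBasic Cfsg.Agent.LieClassical.HermSiegel
  Cfsg.Agent.ClassicalGeometry.PSUAutBasic Matrix

section Field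

variable {F : Type*} [Field F] [Fintype F]

theorem charP_two (hF : Fintype.card F = 2 ^ 2) : CharP F 2 := by
  obtain ⟨p, k, hp, hchar, hk, -⟩ := exists_prime_pow hF
  have h1 : p ∣ 2 := by rw [hk]; apply dvd_pow_self; rintro rfl; norm_num at hk
  rwa [(Nat.prime_dvd_prime_iff_eq hp Nat.prime_two).1 h1] at hchar

theorem add_self (hF : Fintype.card F = 2 ^ 2) (x : F) : x + x = 0 := by
  have := charP_two hF
  exact CharTwo.add_self_eq_zero x

theorem neg_self (hF : Fintype.card F = 2 ^ 2) (x : F) : -x = x := by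
  have h := add_self hF x
  linear_combination -h

theorem pow_three (hF : Fintype.card F = 2 ^ 2) {x : F} (hx : x ≠ 0) : x ^ 3 = 1 := by
  have := FiniteField.pow_card_sub_one_eq_one x hx
  rwa [hF] at this

omit [Fintype F] in
theorem fixed {x : F} (hx : x ^ 2 = x) : x = 0 ∨ x = 1 := by
  by_cases h0 : x = 0
  · exact Or.inl h0
  · right
    have : x * (x - 1) = 0 := by linear_combination hx
    rcases mul_eq_zero.1 this with h | h
    · exact absurd h h0
    · linear_combination h

/-- a primitive cube root of unity -/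
theorem exists_omega (hF : Fintype.card F = 2 ^ 2) : ∃ ω : F, ω ≠ 0 ∧ ω + ω ^ 2 = 1 := by
  obtain ⟨x, hx⟩ := exists_not_fixed hF
  have h0 : x ≠ 0 := by rintro rfl; exact hx (by ring)
  have h1 : x ≠ 1 := by rintro rfl; exact hx (by ring)
  refine ⟨x, h0, ?_⟩
  have h3 := pow_three hF h0
  have h2 := add_self hF (1 : F)
  have h4 : (x - 1) * (x + x ^ 2 - 1) = 0 := by
    linear_combination h3 - x * h2 + h2
  rcases mul_eq_zero.1 h4 with h | h
  · exact absurd (by linear_combination h) h1
  · linear_combination h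

end Field

section Vec

variable {F : Type*} [Field F] [Fintype F] {n : ℕ}

theorem vadd_self (hF : Fintype.card F = 2 ^ 2) (x : Fin n → F) : x + x = 0 := by
  funext i
  exact add_self hF (x i)

theorem vneg (hF : Fintype.card F = 2 ^ 2) (x : Fin n → F) : -x = x :=
  neg_eq_of_add_eq_zero_left (vadd_self hF x)

theorem vsub (hF : Fintype.card F = 2 ^ 2) (x y : Fin n → F) : x - y = x + y := by
  rw [sub_eq_add_neg, vneg hF]

/-- `w y + y` -/
def Nw (w : SU n F 2) (y : Fin n → F) : Fin n → F := act w y + y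

omit [Fintype F] in
theorem Nw_def (w : SU n F 2) (y : Fin n → F) : Nw w y = act w y + y := rfl

theorem act_eq (hF : Fintype.card F = 2 ^ 2) (w : SU n F 2) (y : Fin n → F) : act w y = y + Nw w y := by
  rw [Nw, add_comm (act w y) y, ← add_assoc, vadd_self hF, zero_add]

omit [Fintype F] in
theorem Nw_add (w : SU n F 2) (x y : Fin n → F) : Nw w (x + y) = Nw w x + Nw w y := by
  rw [Nw, Nw, Nw, act_add]
  abel

omit [Fintype F] in
theorem Nw_smul (w : SU n F 2) (c : F) (y : Fin n → F) : Nw w (c • y) = c • Nw w y := by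
  rw [Nw, Nw, act_smul, smul_add]

theorem Nw_eq_zero (hF : Fintype.card F = 2 ^ 2) {w : SU n F 2} {y : Fin n → F} : Nw w y = 0 ↔ act w y = y := by
  constructor
  · intro h
    rw [act_eq hF, h, add_zero]
  · intro h
    rw [Nw, h, vadd_self hF]

omit [Fintype F] in
theorem act_act {w : SU n F 2} (hw : w * w = 1) (y : Fin n → F) : act w (act w y) = y := by
  rw [← act_mul, hw, act_one]

omit [Fintype F] in
theorem act_Nw {w : SU n F 2} (hw : w * w = 1) (y : Fin n → F) : act w (Nw w y) = Nw w y := by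
  rw [Nw, act_add, act_act hw, add_comm]

omit [Fintype F] in
/-- `w` is self-adjoint -/
theorem herm_w {w : SU n F 2} (hw : w * w = 1) (x y : Fin n → F) :
    hermForm n F 2 (act w x) y = hermForm n F 2 x (act w y) := by
  rw [← herm_act w x (act w y), act_act hw]

theorem herm_Nw (hF : Fintype.card F = 2 ^ 2) {w : SU n F 2} (hw : w * w = 1) (x y : Fin n → F) :
    hermForm n F 2 (Nw w x) y = hermForm n F 2 x (Nw w y) := by
  rw [Nw, Nw, herm_add_left, herm_add_right hF, herm_w hw]

theorem herm_Nw_fix (hF : Fintype.card F = 2 ^ 2) {w : SU n F 2} (hw : w * w = 1) {u : Fin n → F}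
    (hu : act w u = u) (y : Fin n → F) : hermForm n F 2 (Nw w y) u = 0 := by
  rw [herm_Nw hF hw, (Nw_eq_zero hF).2 hu, herm_zero_right hF]

theorem herm_fix_Nw (hF : Fintype.card F = 2 ^ 2) {w : SU n F 2} (hw : w * w = 1) {u : Fin n → F}
    (hu : act w u = u) (y : Fin n → F) : hermForm n F 2 u (Nw w y) = 0 :=
  herm_eq_zero_swap hF (herm_Nw_fix hF hw hu y)

theorem fix_of_orth (hF : Fintype.card F = 2 ^ 2) {w : SU n F 2} (hw : w * w = 1) {u : Fin n → F}
    (h : ∀ y, hermForm n F 2 (Nw w y) u = 0) : act w u = u := by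
  rw [← Nw_eq_zero hF]
  by_contra h0
  obtain ⟨y, hy⟩ := exists_herm_ne_zero hF h0
  apply hy
  rw [herm_Nw hF hw]
  exact herm_eq_zero_swap hF (h y)

/-- The radical of the fixed space of `w`. -/
def Rd (w : SU n F 2) (r : Fin n → F) : Prop :=
  act w r = r ∧ ∀ u, act w u = u → hermForm n F 2 u r = 0

theorem Rd_Nw (hF : Fintype.card F = 2 ^ 2) {w : SU n F 2} (hw : w * w = 1) (y : Fin n → F) : Rd w (Nw w y) :=
  ⟨act_Nw hw y, fun _ hu => herm_fix_Nw hF hw hu y⟩

omit [Fintype F] in
theorem Rd.self {w : SU n F 2} {r : Fin n → F} (h : Rd w r) : hermForm n F 2 r r = 0 := h.2 r h.1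

omit [Fintype F] in
theorem Rd.left {w : SU n F 2} {r : Fin n → F} (h : Rd w r) {u : Fin n → F} (hu : act w u = u) :
    hermForm n F 2 u r = 0 := h.2 u hu

theorem Rd.right (hF : Fintype.card F = 2 ^ 2) {w : SU n F 2} {r : Fin n → F} (h : Rd w r) {u : Fin n → F}
    (hu : act w u = u) : hermForm n F 2 r u = 0 := herm_eq_zero_swap hF (h.2 u hu)

omit [Fintype F] in
theorem Rd.smul {w : SU n F 2} {r : Fin n → F} (h : Rd w r) (c : F) : Rd w (c • r) := by
  refine ⟨by rw [act_smul, h.1], fun u hu => ?_⟩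
  rw [herm_smul_right, h.2 u hu, mul_zero]

theorem Rd.add (hF : Fintype.card F = 2 ^ 2) {w : SU n F 2} {r s : Fin n → F} (h : Rd w r) (h' : Rd w s) :
    Rd w (r + s) := by
  refine ⟨by rw [act_add, h.1, h'.1], fun u hu => ?_⟩
  rw [herm_add_right hF, h.2 u hu, h'.2 u hu, add_zero]

omit [Fintype F] in
theorem comm_act {w x : SU n F 2} (h : x * w = w * x) (y : Fin n → F) : act x (act w y) = act w (act x y) := by
  rw [← act_mul, h, act_mul]

omit [Fintype F] in
theorem fix_act {w x : SU n F 2} (h : x * w = w * x) {u : Fin n → F} (hu : act w u = u) :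
    act w (act x u) = act x u := by
  rw [← comm_act h, hu]

omit [Fintype F] in
theorem fix_act_iff {w x : SU n F 2} (h : x * w = w * x) {u : Fin n → F} :
    act w (act x u) = act x u ↔ act w u = u := by
  rw [← comm_act h]
  exact ⟨fun h1 => act_injective x h1, fun h1 => by rw [h1]⟩

omit [Fintype F] in
theorem Rd.map {w x : SU n F 2} (h : x * w = w * x) {r : Fin n → F} (hr : Rd w r) : Rd w (act x r) := by
  refine ⟨fix_act h hr.1, fun u hu => ?_⟩
  have h1 : u = act x (act x⁻¹ u) := (act_act_inv x u).symm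
  rw [h1, herm_act]
  apply hr.2
  apply (fix_act_iff h).1
  rw [← h1, hu]

omit [Fintype F] in
theorem Nw_comm {w x : SU n F 2} (h : x * w = w * x) (y : Fin n → F) : act x (Nw w y) = Nw w (act x y) := by
  rw [Nw, Nw, act_add, comm_act h]

/-! ### Siegel elements -/

/-- existence of the parameter -/
theorem exists_siegel (hF : Fintype.card F = 2 ^ 2) {r u : Fin n → F} (hr : hermForm n F 2 r r = 0)
    (hu : hermForm n F 2 u r = 0) : ∃ μ : F, IsSiegel 2 r u μ := by
  obtain ⟨μ, hμ⟩ := exists_trace_eq hF (c := hermForm n F 2 u u) (herm_self_pow hF u)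
  refine ⟨μ, hr, hu, ?_⟩
  rw [hμ, add_self hF]

/-- Siegel elements commuting with `w` -/
theorem siegel_comm (hF : Fintype.card F = 2 ^ 2) {w : SU n F 2} {r u : Fin n → F} {μ : F}
    (h : IsSiegel 2 r u μ) (hr : act w r = r) (hu : act w u = u) :
    siegel hF r u μ h * w = w * siegel hF r u μ h := by
  have h1 := conj_siegel hF h w
  rw [siegel_congr hF (h.map w) h hr hu rfl] at h1
  calc siegel hF r u μ h * w = (w * siegel hF r u μ h * w⁻¹) * w := by rw [h1]
    _ = w * siegel hF r u μ h := by group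

/-- the transvection with center `v` -/
theorem exists_tv (hF : Fintype.card F = 2 ^ 2) {v : Fin n → F} (hv : hermForm n F 2 v v = 0) :
    ∃ t : SU n F 2, ∀ y, act t y = y + hermForm n F 2 y v • v := by
  have h : (1 : F) + 1 ^ 2 = 0 := by rw [one_pow, add_self hF]
  refine ⟨transv hF v hv 1 h, fun y => ?_⟩
  rw [act_transv, one_mul]

end Vec

end Cfsg.Agent.OddHalf.D4.Un2
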