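import Mathlib
import Cfsg.Agent.OddHalf.D4.Un2.Basic

/-!
# ODD, D4, row `U_n(2)`: subgroups normalized by the centralizers of their involutions

`Good B`: `B ≤ SU_n(2)` is normalized by the centralizers of its involutions and contains no transvection.
`Good.eq_one_or`: if `w` is an involution of `B` with maximal fixed space and `n ≥ 5`, then the 2-elements of `C_B(w)`
are `1` and `w`.
-/

set_option autoImplicit false

namespace Cfsg.Agent.OddHalf.D4.Un2

open Cfsg Cfsg.Agent.LieClassical.HermBasic Cfsg.Agent.LieClassical.HermSiegel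
  Cfsg.Agent.ClassicalGeometry.PSUAutBasic Matrix

variable {F : Type*} [Field F] [Fintype F] {n : ℕ}

omit [Fintype F] in
/-- `B` is normalized by the centralizers of its involutions, and contains no transvection. -/
structure Good (B : Subgroup (SU n F 2)) : Prop where
  norm : ∀ w ∈ B, w * w = 1 → w ≠ 1 → ∀ c, c * w = w * c → ∀ b ∈ B, c * b * c⁻¹ ∈ B
  non : ∀ g ∈ B, ∀ v : Fin n → F, v ≠ 0 → hermForm n F 2 v v = 0 →
    ¬ ∀ y, act g y = y + hermForm n F 2 y v • v

variable {B : Subgroup (SU n F 2)}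

omit [Fintype F] in
theorem Good.comm_mem (hB : Good B) {w : SU n F 2} (hw : w ∈ B) (hw2 : w * w = 1) (hw1 : w ≠ 1) {c : SU n F 2}
    (hc : c * w = w * c) {g : SU n F 2} (hg : g ∈ B) : (g * c * g⁻¹) * c⁻¹ ∈ B := by
  have h := B.mul_mem hg (hB.norm w hw hw2 hw1 c hc g⁻¹ (B.inv_mem hg))
  have e : g * (c * g⁻¹ * c⁻¹) = (g * c * g⁻¹) * c⁻¹ := by group
  rwa [e] at h

/-- an element of `B` with `g s = s`, `g v = v + s` (`s`, `v` fixed by `w`, `s` isotropic, orthogonal to `v`) -/
theorem Good.claim (hF : Fintype.card F = 2 ^ 2) (hB : Good B) {w : SU n F 2} (hw : w ∈ B) (hw2 : w * w = 1)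
    (hw1 : w ≠ 1) {g : SU n F 2} (hg : g ∈ B) {s v : Fin n → F} (hs : act w s = s)
    (hss : hermForm n F 2 s s = 0) (hv : act w v = v) (hvs : hermForm n F 2 v s = 0) (hgs : act g s = s)
    (hgv : act g v = v + s) : s = 0 := by
  by_contra h0
  obtain ⟨ω, -, hω⟩ := exists_omega hF
  have hvs' : hermForm n F 2 (ω • v) s = 0 := by rw [herm_smul_left, hvs, mul_zero]
  obtain ⟨μ, hμ⟩ := exists_siegel hF hss hvs'
  have hcw : siegel hF s (ω • v) μ hμ * w = w * siegel hF s (ω • v) μ hμ :=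
    siegel_comm hF hμ hs (by rw [act_smul, hv])
  refine hB.non _ (hB.comm_mem hw hw2 hw1 hcw hg) s h0 hss fun y => ?_
  obtain ⟨z, rfl⟩ : ∃ z, y = act (siegel hF s (ω • v) μ hμ) z := ⟨_, (act_act_inv _ y).symm⟩
  have h1 : hermForm n F 2 (act (siegel hF s (ω • v) μ hμ) z) s = hermForm n F 2 z s := by
    have h := herm_act (siegel hF s (ω • v) μ hμ) z s
    rwa [act_siegel_self hF hμ] at h
  have h2 : act g (ω • v) = ω • v + ω • s := by rw [act_smul, hgv, smul_add]
  have hμ' : IsSiegel 2 s (ω • v + ω • s) μ := by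
    have h := hμ.map g
    rwa [hgs, h2] at h
  rw [act_mul, act_inv_act, h1, conj_siegel hF hμ g, siegel_congr hF (hμ.map g) hμ' hgs h2 rfl, act_siegel,
    act_siegel]
  have h3 : hermForm n F 2 z (ω • v + ω • s) = hermForm n F 2 z (ω • v) + ω ^ 2 * hermForm n F 2 z s := by
    rw [herm_add_right hF, herm_smul_right ω z s]
  rw [h3]
  funext i
  simp only [Pi.add_apply, Pi.smul_apply, smul_eq_mul]
  have h4 : ω - ω ^ 2 = 1 := by linear_combination hω - ω ^ 2 * add_self hF (1 : F)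
  linear_combination (hermForm n F 2 z s * s i) * h4

omit [Fintype F] in
theorem act_pow_smul {x : SU n F 2} {r : Fin n → F} {c : F} (h : act x r = c • r) (m : ℕ) :
    act (x ^ m) r = c ^ m • r := by
  induction m with
  | zero => rw [pow_zero, act_one, pow_zero, one_smul]
  | succ m ih => rw [pow_succ, act_mul, h, act_smul, ih, smul_smul, pow_succ, mul_comm]

/-- the eigenvalues of 2-elements -/
theorem eigen_eq_one (hF : Fintype.card F = 2 ^ 2) {x : SU n F 2} {k : ℕ} (hx : x ^ 2 ^ k = 1)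
    {r : Fin n → F} (hr : r ≠ 0) {c : F} (h : act x r = c • r) : c = 1 := by
  have := charP_two hF
  have : Fact (Nat.Prime 2) := ⟨Nat.prime_two⟩
  have h1 := act_pow_smul h (2 ^ k)
  rw [hx, act_one] at h1
  have h2 : (c ^ 2 ^ k - 1) • r = 0 := by rw [sub_smul, one_smul, ← h1, sub_self]
  have h3 : c ^ 2 ^ k - 1 = 0 := (smul_eq_zero.1 h2).resolve_right hr
  have h4 : (c - 1) ^ 2 ^ k = 0 := by rw [sub_pow_char_pow, one_pow, h3]
  exact sub_eq_zero.1 ((pow_eq_zero_iff (pow_ne_zero k two_ne_zero)).1 h4)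

/-- the key relation -/
theorem Good.key (hF : Fintype.card F = 2 ^ 2) (hB : Good B) {w : SU n F 2} (hw : w ∈ B) (hw2 : w * w = 1)
    (hw1 : w ≠ 1) {x : SU n F 2} (hx : x ∈ B) (hxw : x * w = w * x) {r u y : Fin n → F} (hr : Rd w r)
    (hu : act w u = u) (hy : act w y = y) :
    hermForm n F 2 y u • r = hermForm n F 2 y (act x u) • act x r := by
  obtain ⟨μ, hμ⟩ := exists_siegel hF hr.self (hr.left hu)
  have hcw : siegel hF r u μ hμ * w = w * siegel hF r u μ hμ := siegel_comm hF hμ hr.1 hu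
  set ψ := siegel hF r u μ hμ with hψ
  have hg := hB.comm_mem hw hw2 hw1 hcw hx
  -- `ψ` on fixed vectors
  have h1 : ∀ z, act w z = z → act ψ z = z + hermForm n F 2 z u • r := by
    intro z hz
    rw [hψ, act_siegel, hr.left hz, mul_zero, zero_smul, zero_sub, neg_self hF, add_zero]
  have h2 : ∀ z, act w z = z → act (x * ψ * x⁻¹) z = z + hermForm n F 2 z (act x u) • act x r := by
    intro z hz
    rw [hψ, conj_siegel hF hμ x, act_siegel, (hr.map hxw).left hz, mul_zero, zero_smul, zero_sub, neg_self hF,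
      add_zero]
  have h3 : ∀ z, Rd w z → act ψ z = z := by
    intro z hz
    rw [h1 z hz.1, hz.right hF hu, zero_smul, add_zero]
  have h4 : ∀ z, Rd w z → act (x * ψ * x⁻¹ * ψ⁻¹) z = z := by
    intro z hz
    have h5 : act ψ⁻¹ z = z := by
      conv_lhs => rw [← h3 z hz]
      rw [act_inv_act]
    rw [act_mul, h5, h2 z hz.1, hz.right hF (fix_act hxw hu), zero_smul, add_zero]
  have hs : Rd w (hermForm n F 2 y u • r + hermForm n F 2 y (act x u) • act x r) :=
    (hr.smul _).add hF ((hr.map hxw).smul _)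
  have hv : act w (act ψ y) = act ψ y := fix_act hcw hy
  have h6 : act (x * ψ * x⁻¹ * ψ⁻¹) (act ψ y) = act ψ y +
      (hermForm n F 2 y u • r + hermForm n F 2 y (act x u) • act x r) := by
    rw [act_mul, act_inv_act, h2 y hy, h1 y hy]
    have h7 := vadd_self hF (hermForm n F 2 y u • r)
    calc y + hermForm n F 2 y (act x u) • act x r
        = y + (hermForm n F 2 y u • r + hermForm n F 2 y u • r) + hermForm n F 2 y (act x u) • act x r := by
          rw [h7, add_zero]
      _ = _ := by abel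
  have h8 := hB.claim hF hw hw2 hw1 hg hs.1 hs.self hv (hs.left hv) (h4 _ hs) h6
  have h9 := congrArg (fun z => z + hermForm n F 2 y (act x u) • act x r) h8
  simp only [add_assoc, vadd_self hF, add_zero, zero_add] at h9
  exact h9

/-- the fixed space of `w` is not totally isotropic: 2-elements of `C_B(w)` act trivially on it -/
theorem Good.fix_of_ne (hF : Fintype.card F = 2 ^ 2) (hB : Good B) {w : SU n F 2} (hw : w ∈ B) (hw2 : w * w = 1)
    (hw1 : w ≠ 1) {x : SU n F 2} (hx : x ∈ B) {k : ℕ} (hx2 : x ^ 2 ^ k = 1) (hxw : x * w = w * x)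
    {y₀ u₀ : Fin n → F} (hy₀ : act w y₀ = y₀) (hu₀ : act w u₀ = u₀) (h0 : hermForm n F 2 y₀ u₀ ≠ 0)
    {u : Fin n → F} (hu : act w u = u) : act x u = u := by
  have key : ∀ {r u y : Fin n → F}, Rd w r → act w u = u → act w y = y →
      hermForm n F 2 y u • r = hermForm n F 2 y (act x u) • act x r :=
    fun hr hu hy => hB.key hF hw hw2 hw1 hx hxw hr hu hy
  obtain ⟨z, hz⟩ : ∃ z, Nw w z ≠ 0 := by
    by_contra hcon
    push Not at hcon
    apply hw1
    apply ext_act
    intro v
    rw [(Nw_eq_zero hF).1 (hcon v), act_one]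
  have hr0 := Rd_Nw hF hw2 z
  set r₀ := Nw w z with hr₀
  have h1 := key hr0 hu₀ hy₀
  have h2 : hermForm n F 2 y₀ (act x u₀) ≠ 0 := by
    intro h
    rw [h, zero_smul, smul_eq_zero] at h1
    rcases h1 with h1 | h1
    · exact h0 h1
    · exact hz h1
  have h3 : act x r₀ = (hermForm n F 2 y₀ u₀ / hermForm n F 2 y₀ (act x u₀)) • r₀ := by
    rw [div_eq_inv_mul, mul_smul, h1, smul_smul, inv_mul_cancel₀ h2, one_smul]
  have h4 := eigen_eq_one hF hx2 hz h3
  have h5 : hermForm n F 2 y₀ u₀ = hermForm n F 2 y₀ (act x u₀) := by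
    rwa [div_eq_one_iff_eq h2] at h4
  have h6 : ∀ r, Rd w r → act x r = r := by
    intro r hr
    have h7 := key hr hu₀ hy₀
    rw [← h5] at h7
    exact (smul_right_injective _ h0 h7).symm
  have h7 : ∀ y, act w y = y → hermForm n F 2 y (act x u + u) = 0 := by
    intro y hy
    have h8 := key hr0 hu hy
    rw [h6 _ hr0, ← sub_eq_zero, ← sub_smul, smul_eq_zero] at h8
    have h9 := sub_eq_zero.1 (h8.resolve_right hz)
    rw [herm_add_right hF, ← h9, add_self hF]
  have h8 : Rd w (act x u + u) :=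
    ⟨by rw [act_add, fix_act hxw hu, hu], fun y hy => h7 y hy⟩
  have h9 := hB.claim hF hw hw2 hw1 hx h8.1 h8.self hu (h8.left hu) (h6 _ h8) (by
    rw [add_comm (act x u) u, ← add_assoc, vadd_self hF, zero_add])
  have h10 := congrArg (fun z => z + u) h9
  simpa only [add_assoc, vadd_self hF, add_zero, zero_add] using h10

/-! ### Orthogonal vectors -/

omit [Fintype F] in
/-- The linear functional `x ↦ h(x, v)`. -/
def hL (v : Fin n → F) : (Fin n → F) →ₗ[F] F where
  toFun x := hermForm n F 2 x v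
  map_add' x y := herm_add_left x y v
  map_smul' c x := herm_smul_left c x v

omit [Fintype F] in
theorem exists_orth_four (hn : 5 ≤ n) (a b c d : Fin n → F) :
    ∃ x : Fin n → F, x ≠ 0 ∧ hermForm n F 2 x a = 0 ∧ hermForm n F 2 x b = 0 ∧ hermForm n F 2 x c = 0 ∧
      hermForm n F 2 x d = 0 := by
  have h : LinearMap.ker (((hL a).prod (hL b)).prod ((hL c).prod (hL d)) :
      (Fin n → F) →ₗ[F] (F × F) × (F × F)) ≠ ⊥ := by
    apply LinearMap.ker_ne_bot_of_finrank_lt
    simp
    omega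
  obtain ⟨x, hx, hx0⟩ := (Submodule.ne_bot_iff _).1 h
  rw [LinearMap.mem_ker] at hx
  simp only [LinearMap.prod_apply, Function.prod_apply, Prod.mk_eq_zero] at hx
  exact ⟨x, hx0, hx.1.1, hx.1.2, hx.2.1, hx.2.2⟩

/-- the orthogonal complement of two independent vectors is not totally isotropic if `n ≥ 5` -/
theorem exists_pair (hF : Fintype.card F = 2 ^ 2) (hn : 5 ≤ n) {p s : Fin n → F} (hp : p ≠ 0)
    (hs : ∀ c : F, s ≠ c • p) :
    ∃ y₁ y₂ : Fin n → F, hermForm n F 2 y₁ p = 0 ∧ hermForm n F 2 y₁ s = 0 ∧ hermForm n F 2 y₂ p = 0 ∧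
      hermForm n F 2 y₂ s = 0 ∧ hermForm n F 2 y₁ y₂ ≠ 0 := by
  by_contra hcon
  push Not at hcon
  have hex : ∀ v : Fin n → F, v ≠ 0 → ∃ z, hermForm n F 2 z v = 1 := by
    intro v hv
    obtain ⟨y, hy⟩ := exists_herm_ne_zero hF hv
    have h1 : hermForm n F 2 y v ≠ 0 := fun h => hy (herm_eq_zero_swap hF h)
    exact ⟨(hermForm n F 2 y v)⁻¹ • y, by rw [herm_smul_left, inv_mul_cancel₀ h1]⟩
  obtain ⟨z₁, hz₁⟩ := hex p hp
  set s' := s - (hermForm n F 2 z₁ s) ^ 2 • p with hs'
  have hs0 : s' ≠ 0 := fun h => hs _ (sub_eq_zero.1 h)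
  have h1 : hermForm n F 2 z₁ s' = 0 := by
    rw [hs', herm_sub_right hF, herm_smul_right, hz₁, mul_one, pow_q_pow_q hF, sub_self]
  obtain ⟨z₂, hz₂⟩ := hex s' hs0
  set z := z₂ - hermForm n F 2 z₂ p • z₁ with hz
  have h2 : hermForm n F 2 z p = 0 := by
    rw [hz, herm_sub_left, herm_smul_left, hz₁, mul_one, sub_self]
  have h3 : hermForm n F 2 z s' = 1 := by
    rw [hz, herm_sub_left, herm_smul_left, h1, mul_zero, sub_zero, hz₂]
  obtain ⟨u, hu0, hup, hus, hu1, hu2⟩ := exists_orth_four hn p s z₁ z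
  apply hu0
  apply herm_nondeg hF
  intro y
  have h4 : hermForm n F 2 (y - hermForm n F 2 y p • z₁ - hermForm n F 2 y s' • z) p = 0 := by
    rw [herm_sub_left, herm_sub_left, herm_smul_left, herm_smul_left, hz₁, h2]
    ring
  have h5 : hermForm n F 2 (y - hermForm n F 2 y p • z₁ - hermForm n F 2 y s' • z) s' = 0 := by
    rw [herm_sub_left, herm_sub_left, herm_smul_left, herm_smul_left, h1, h3]
    ring
  have h6 : hermForm n F 2 (y - hermForm n F 2 y p • z₁ - hermForm n F 2 y s' • z) s = 0 := by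
    have h7 : s = s' + (hermForm n F 2 z₁ s) ^ 2 • p := by rw [hs', sub_add_cancel]
    rw [h7, herm_add_right hF, h5, herm_smul_right, h4, mul_zero, add_zero]
  have h7 := hcon u _ hup hus h4 h6
  rw [herm_sub_right hF, herm_sub_right hF, herm_smul_right, herm_smul_right, hu1, hu2, mul_zero, mul_zero,
    sub_zero, sub_zero] at h7
  exact h7

end Cfsg.Agent.OddHalf.D4.Un2
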