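import Mathlib
import Cfsg.Agent.OddHalf.D4.Un2.Tab

/-!
# ODD, D4, row `U_n(2)`: involutions with maximal fixed space

`MaxI B w`: `w` is an involution of `B` with maximal fixed space. `Good.eq_one_or`: the 2-elements of `C_B(w)` are
`1` and `w` (if `n ≥ 5`).
-/

set_option autoImplicit false

namespace Cfsg.Agent.OddHalf.D4.Un2

open Cfsg Cfsg.Agent.LieClassical.HermBasic Cfsg.Agent.LieClassical.HermSiegel
  Cfsg.Agent.LieClassical.HermGen Cfsg.Agent.ClassicalGeometry.PSUAutBasic Matrix

variable {F : Type*} [Field F] [Fintype F] {n : ℕ}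

omit [Fintype F] in
/-- `w` is an involution of `B` with maximal fixed space. -/
structure MaxI (B : Subgroup (SU n F 2)) (w : SU n F 2) : Prop where
  mem : w ∈ B
  sq : w * w = 1
  ne : w ≠ 1
  max : ∀ g ∈ B, g * g = 1 → g ≠ 1 → (∀ u, act w u = u → act g u = u) → ∀ u, act g u = u → act w u = u

variable {B : Subgroup (SU n F 2)}

theorem exists_maxI (h : ∃ w ∈ B, w * w = 1 ∧ w ≠ 1) : ∃ w, MaxI B w := by
  classical
  obtain ⟨w, ⟨hw1, hw2, hw3⟩, hmax⟩ := Set.exists_max_image {w : SU n F 2 | w ∈ B ∧ w * w = 1 ∧ w ≠ 1}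
    (fun w => Set.ncard {u : Fin n → F | act w u = u}) (Set.toFinite _) h
  refine ⟨w, hw1, hw2, hw3, ?_⟩
  intro g hg hg2 hg1 hle u hu
  have h1 := Set.eq_of_subset_of_ncard_le (s := {u : Fin n → F | act w u = u}) (t := {u : Fin n → F | act g u = u})
    hle (hmax g ⟨hg, hg2, hg1⟩) (Set.toFinite _)
  have h2 : u ∈ {u : Fin n → F | act g u = u} := hu
  rw [← h1] at h2
  exact h2

/-! ### Transvections -/

omit [Fintype F] in
/-- conjugate of a transvection -/
theorem conj_tv {t : SU n F 2} {v : Fin n → F} (ht : ∀ y, act t y = y + hermForm n F 2 y v • v) (x : SU n F 2)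
    (y : Fin n → F) : act (x * t * x⁻¹) y = y + hermForm n F 2 y (act x v) • act x v := by
  rw [act_mul, act_mul, ht, act_add, act_smul, act_act_inv]
  have h := herm_act x (act x⁻¹ y) v
  rw [act_act_inv] at h
  rw [h]

omit [Fintype F] in
theorem tv_comm {w t : SU n F 2} (hw : w * w = 1) {v : Fin n → F}
    (ht : ∀ y, act t y = y + hermForm n F 2 y v • v) (hv : act w v = v) : t * w = w * t := by
  apply ext_act
  intro y
  rw [act_mul, act_mul, ht, ht, act_add, act_smul, hv, herm_w hw, hv]

theorem smul_self_add (hF : Fintype.card F = 2 ^ 2) (v : Fin n → F) (c : F) : c • v + c • v = 0 := vadd_self hF _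

/-- `h(y, v) v + h(y, v') v' = 0` for all `y` implies `v' = c v` -/
theorem exists_smul_of_sum (hF : Fintype.card F = 2 ^ 2) {v v' : Fin n → F} (hv' : v' ≠ 0)
    (h : ∀ y, hermForm n F 2 y v • v + hermForm n F 2 y v' • v' = 0) : ∃ c : F, v' = c • v := by
  obtain ⟨y, hy⟩ := exists_herm_ne_zero hF hv'
  have h1 : hermForm n F 2 y v' ≠ 0 := fun h => hy (herm_eq_zero_swap hF h)
  have h2 := h y
  refine ⟨(hermForm n F 2 y v')⁻¹ * hermForm n F 2 y v, ?_⟩
  have h3 : hermForm n F 2 y v' • v' = hermForm n F 2 y v • v := by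
    have h4 := congrArg (fun z => z + hermForm n F 2 y v • v) h2
    simp only [zero_add] at h4
    rw [← h4]
    have h5 := vadd_self hF (hermForm n F 2 y v • v)
    calc hermForm n F 2 y v' • v' = hermForm n F 2 y v' • v' +
        (hermForm n F 2 y v • v + hermForm n F 2 y v • v) := by rw [h5, add_zero]
      _ = _ := by abel
  rw [mul_smul, ← h3, smul_smul, inv_mul_cancel₀ h1, one_smul]

/-- the fixed space of `w` is totally isotropic, `n ≥ 5` -/
theorem Good.fix_of_iso (hF : Fintype.card F = 2 ^ 2) (hn : 5 ≤ n) (hB : Good B) {w : SU n F 2} (hw : MaxI B w)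
    {x : SU n F 2} (hx : x ∈ B) {k : ℕ} (hx2 : x ^ 2 ^ k = 1) (hxw : x * w = w * x)
    (hiso : ∀ y u, act w y = y → act w u = u → hermForm n F 2 y u = 0) {v : Fin n → F} (hv : act w v = v) :
    act x v = v := by
  by_cases hv0 : v = 0
  · rw [hv0, act_zero]
  by_cases hc : ∃ c : F, act x v = c • v
  · obtain ⟨c, hc⟩ := hc
    rw [hc, eigen_eq_one hF hx2 hv0 hc, one_smul]
  exfalso
  push Not at hc
  have hxv : act w (act x v) = act x v := fix_act hxw hv
  obtain ⟨t, ht⟩ := exists_tv hF (hiso v v hv hv)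
  have htw := tv_comm hw.sq ht hv
  have hg := hB.comm_mem hw.mem hw.sq hw.ne htw hx
  have htt : ∀ y, act t (act t y) = y := by
    intro y
    rw [ht (act t y), ht y, herm_add_left, herm_smul_left, hiso v v hv hv, mul_zero, add_zero, add_assoc,
      vadd_self hF, add_zero]
  have hform : ∀ y, act (x * t * x⁻¹ * t⁻¹) y = y + hermForm n F 2 y v • v +
      hermForm n F 2 y (act x v) • act x v := by
    intro y
    have h1 : act t⁻¹ y = act t y := by
      rw [← htt y, act_inv_act, htt]
    rw [act_mul, h1, conj_tv ht, ht, herm_add_left, herm_smul_left, hiso v (act x v) hv hxv, mul_zero, add_zero]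
  have hfix : ∀ y, hermForm n F 2 y v = 0 → hermForm n F 2 y (act x v) = 0 →
      act (x * t * x⁻¹ * t⁻¹) y = y := by
    intro y h1 h2
    rw [hform, h1, h2, zero_smul, zero_smul, add_zero, add_zero]
  have hg2 : (x * t * x⁻¹ * t⁻¹) * (x * t * x⁻¹ * t⁻¹) = 1 := by
    apply ext_act
    intro y
    rw [act_mul, act_one, hform (act _ y), hform y]
    simp only [herm_add_left, herm_smul_left, hiso v v hv hv, hiso v (act x v) hv hxv,
      hiso (act x v) v hxv hv, hiso (act x v) (act x v) hxv hxv, mul_zero, add_zero]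
    have h1 := vadd_self hF (hermForm n F 2 y v • v)
    have h2 := vadd_self hF (hermForm n F 2 y (act x v) • act x v)
    calc _ = y + (hermForm n F 2 y v • v + hermForm n F 2 y v • v) +
        (hermForm n F 2 y (act x v) • act x v + hermForm n F 2 y (act x v) • act x v) := by abel
      _ = y := by rw [h1, h2, add_zero, add_zero]
  have hg1 : x * t * x⁻¹ * t⁻¹ ≠ 1 := by
    intro h
    obtain ⟨c, hc'⟩ := exists_smul_of_sum hF (v' := act x v)
      (fun h0 => hv0 (act_injective x (by rw [h0, act_zero]))) (fun y => by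
        have h1 := hform y
        rw [h, act_one, add_assoc] at h1
        exact (left_eq_add.1 h1))
    exact hc c hc'
  obtain ⟨y₁, y₂, h1, h2, h3, h4, h5⟩ := exists_pair hF hn hv0 hc
  have hmax := hw.max _ hg hg2 hg1 (fun u hu => hfix u (hiso u v hu hv) (hiso u _ hu hxv))
  exact h5 (hiso y₁ y₂ (hmax _ (hfix _ h1 h2)) (hmax _ (hfix _ h3 h4)))

/-- 2-elements of `C_B(w)` act trivially on the fixed space of `w`, `n ≥ 5` -/
theorem Good.fix (hF : Fintype.card F = 2 ^ 2) (hn : 5 ≤ n) (hB : Good B) {w : SU n F 2} (hw : MaxI B w)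
    {x : SU n F 2} (hx : x ∈ B) {k : ℕ} (hx2 : x ^ 2 ^ k = 1) (hxw : x * w = w * x) {v : Fin n → F}
    (hv : act w v = v) : act x v = v := by
  by_cases h : ∀ y u, act w y = y → act w u = u → hermForm n F 2 y u = 0
  · exact hB.fix_of_iso hF hn hw hx hx2 hxw h hv
  · push Not at h
    obtain ⟨y₀, u₀, h1, h2, h3⟩ := h
    exact hB.fix_of_ne hF hw.mem hw.sq hw.ne hx hx2 hxw h1 h2 h3 hv

/-! ### The second half -/

/-- an involution which is not a transvection moves a vector `a` with `h(a, wa + a) = 0` -/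
theorem exists_iso_vec (hF : Fintype.card F = 2 ^ 2) {w : SU n F 2} (hw : w * w = 1) (hw1 : w ≠ 1)
    (hnt : ∀ v : Fin n → F, v ≠ 0 → hermForm n F 2 v v = 0 → ¬ ∀ y, act w y = y + hermForm n F 2 y v • v) :
    ∃ a, act w a ≠ a ∧ hermForm n F 2 a (Nw w a) = 0 := by
  by_contra hcon
  push Not at hcon
  obtain ⟨y₀, hy₀⟩ : ∃ z, Nw w z ≠ 0 := by
    by_contra hcon
    push Not at hcon
    apply hw1
    apply ext_act
    intro v
    rw [(Nw_eq_zero hF).1 (hcon v), act_one]
  have hone : ∀ a, Nw w a ≠ 0 → hermForm n F 2 a (Nw w a) = 1 := by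
    intro a ha
    have h1 := hcon a (fun h => ha ((Nw_eq_zero hF).2 h))
    have h2 : hermForm n F 2 a (Nw w a) ^ 2 = hermForm n F 2 a (Nw w a) := by
      rw [← herm_swap hF, herm_Nw hF hw]
    exact (fixed h2).resolve_left h1
  refine hnt (Nw w y₀) hy₀ (Rd_Nw hF hw y₀).self fun y => ?_
  rw [act_eq hF]
  congr 1
  set c := hermForm n F 2 y (Nw w y₀) with hc
  have h1 : hermForm n F 2 (y + c • y₀) (Nw w y₀) = 0 := by
    rw [herm_add_left, herm_smul_left, hone _ hy₀, mul_one, ← hc, add_self hF]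
  have h2 : Nw w (y + c • y₀) = 0 := by
    by_contra h2
    have h3 := hone _ h2
    have h4 : hermForm n F 2 y₀ (Nw w (y + c • y₀)) = 0 := by
      rw [← herm_Nw hF hw]
      exact herm_eq_zero_swap hF h1
    have h5 : Nw w (y + c • y₀ + y₀) = Nw w (y + c • y₀) + Nw w y₀ := Nw_add _ _ _
    have h6 : hermForm n F 2 (y + c • y₀ + y₀) (Nw w (y + c • y₀ + y₀)) = 0 := by
      rw [h5, herm_add_left, herm_add_right hF, herm_add_right hF, h3, h1, h4, hone _ hy₀, add_zero, zero_add,
        add_self hF]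
    have h7 : act w (y + c • y₀ + y₀) = y + c • y₀ + y₀ := by
      by_contra h7
      exact hcon _ h7 h6
    rw [← Nw_eq_zero hF, h5] at h7
    have h8 : Nw w (y + c • y₀) = Nw w y₀ := by
      have h9 := congrArg (fun z => z + Nw w y₀) h7
      simpa only [add_assoc, vadd_self hF, add_zero, zero_add] using h9
    rw [← h8, h3] at h1
    exact one_ne_zero h1
  rw [Nw_add, Nw_smul] at h2
  have h9 := congrArg (fun z => z + c • Nw w y₀) h2
  simpa only [add_assoc, vadd_self hF, add_zero, zero_add] using h9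

section Half

variable {w x : SU n F 2}

theorem Rd_Nx (hF : Fintype.card F = 2 ^ 2) (hw : w * w = 1) (hxw : x * w = w * x)
    (hfix : ∀ u, act w u = u → act x u = u) (y : Fin n → F) : Rd w (Nw x y) := by
  constructor
  · have h1 : Nw x (Nw w y) = 0 := (Nw_eq_zero hF).2 (hfix _ (act_Nw hw y))
    calc act w (Nw x y) = Nw x (act w y) := Nw_comm hxw.symm y
      _ = Nw x y + Nw x (Nw w y) := by rw [act_eq hF w y, Nw_add]
      _ = Nw x y := by rw [h1, add_zero]
  · intro u hu
    rw [Nw, herm_add_right hF]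
    have h1 : hermForm n F 2 u (act x y) = hermForm n F 2 u y := by
      conv_lhs => rw [← hfix u hu]
      rw [herm_act]
    rw [h1, add_self hF]

theorem sq_x (hF : Fintype.card F = 2 ^ 2) (hw : w * w = 1) (hxw : x * w = w * x)
    (hfix : ∀ u, act w u = u → act x u = u) : x * x = 1 := by
  apply ext_act
  intro y
  have h1 := hfix _ (Rd_Nx hF hw hxw hfix y).1
  rw [act_mul, act_one, act_eq hF x y, act_add, h1, act_eq hF x y, add_assoc, vadd_self hF, add_zero]

omit [Fintype F] in
theorem sq_xw (hw : w * w = 1) (hx : x * x = 1) (hxw : x * w = w * x) : (x * w) * (x * w) = 1 := by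
  calc x * w * (x * w) = x * (w * x) * w := by group
    _ = x * (x * w) * w := by rw [hxw]
    _ = (x * x) * (w * w) := by group
    _ = 1 := by rw [hx, hw, one_mul]

/-- the fixed space of `x` -/
theorem fix_x (hF : Fintype.card F = 2 ^ 2) (hw : MaxI B w) (hx : x ∈ B) (hxw : x * w = w * x)
    (hfix : ∀ u, act w u = u → act x u = u) (hx1 : x ≠ 1) {u : Fin n → F} (hu : act x u = u) : act w u = u :=
  hw.max x hx (sq_x hF hw.sq hxw hfix) hx1 hfix u hu

/-- the fixed space of `x w` -/
theorem fix_xw (hF : Fintype.card F = 2 ^ 2) (hw : MaxI B w) (hx : x ∈ B) (hxw : x * w = w * x)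
    (hfix : ∀ u, act w u = u → act x u = u) (hxw1 : x ≠ w) {u : Fin n → F} (hu : act (x * w) u = u) :
    act w u = u := by
  refine hw.max (x * w) (B.mul_mem hx hw.mem) (sq_xw hw.sq (sq_x hF hw.sq hxw hfix) hxw) ?_ ?_ u hu
  · intro h
    apply hxw1
    calc x = (x * w) * w := by rw [mul_assoc, hw.sq, mul_one]
      _ = w := by rw [h, one_mul]
  · intro u hu
    rw [act_mul, hu, hfix u hu]

/-- the main computation, for isotropic `a` -/
theorem Good.dich_iso (hF : Fintype.card F = 2 ^ 2) (hB : Good B) (hw : MaxI B w) (hx : x ∈ B)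
    (hxw : x * w = w * x) (hfix : ∀ u, act w u = u → act x u = u) (hx1 : x ≠ 1)
    (hxw1 : x ≠ w) {a : Fin n → F} (ha : act w a ≠ a) (haa : hermForm n F 2 a a = 0)
    (haN : hermForm n F 2 a (Nw w a) = 0) :
    hermForm n F 2 a (Nw x a) = 1 ∧ ∀ y, Nw w y = hermForm n F 2 y (Nw w a) • (Nw x a + Nw w a) +
      hermForm n F 2 y (Nw x a) • Nw w a := by
  have hxx := sq_x hF hw.sq hxw hfix
  have he : Rd w (Nw w a) := Rd_Nw hF hw.sq a
  have he' : Rd w (Nw x a) := Rd_Nx hF hw.sq hxw hfix a
  have hwa : act w a = a + Nw w a := act_eq hF w a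
  have hxa : act x a = a + Nw x a := act_eq hF x a
  have hNa : Nw w a ≠ 0 := fun h => ha ((Nw_eq_zero hF).1 h)
  have hself : hermForm n F 2 (Nw x a) a = hermForm n F 2 a (Nw x a) := herm_Nw hF hxx a a
  have hselfw : hermForm n F 2 (Nw w a) a = 0 := by rw [herm_Nw hF hw.sq, haN]
  have hδ : hermForm n F 2 a (Nw x a) ^ 2 = hermForm n F 2 a (Nw x a) := by
    rw [← herm_swap hF, hself]
  set e := Nw w a with hedef
  set e' := Nw x a with he'def
  set δ := hermForm n F 2 a e' with hδdef
  have hee : hermForm n F 2 e e = 0 := he.self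
  have hee' : hermForm n F 2 e e' = 0 := he'.left he.1
  have he'e : hermForm n F 2 e' e = 0 := he.left he'.1
  have he'e' : hermForm n F 2 e' e' = 0 := he'.self
  -- the transvections
  obtain ⟨t₁, ht₁⟩ := exists_tv hF haa
  obtain ⟨t₂, ht₂⟩ := exists_tv hF (v := act w a) (by rw [herm_act, haa])
  have hwaa : hermForm n F 2 (act w a) a = 0 := by rw [hwa, herm_add_left, haa, hselfw, add_zero]
  have hawa : hermForm n F 2 a (act w a) = 0 := herm_eq_zero_swap hF hwaa
  obtain ⟨c, hc⟩ : ∃ c : SU n F 2, ∀ y, act c y = y + hermForm n F 2 y (act w a) • act w a +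
      hermForm n F 2 y a • a := by
    refine ⟨t₁ * t₂, fun y => ?_⟩
    rw [act_mul, ht₁, ht₂, herm_add_left, herm_smul_left, hwaa, mul_zero, add_zero]
  have hcw : c * w = w * c := by
    apply ext_act
    intro y
    have h1 : hermForm n F 2 (act w y) a = hermForm n F 2 y (act w a) := herm_w hw.sq y a
    rw [act_mul, act_mul, hc, hc, herm_act, h1, act_add, act_add, act_smul, act_smul, act_act hw.sq]
    abel
  -- `c` on `e`, `e'`
  have hce : act c e = e := by
    rw [hc, hselfw, hwa, herm_add_right hF, hselfw, hee, add_zero, zero_smul, zero_smul, add_zero, add_zero]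
  have hce' : act c e' = e' + δ • e := by
    rw [hc, hwa, herm_add_right hF, hself, he'e, add_zero, smul_add]
    have h1 := vadd_self hF (δ • a)
    calc e' + (δ • a + δ • e) + δ • a = e' + δ • e + (δ • a + δ • a) := by abel
      _ = e' + δ • e := by rw [h1, add_zero]
  have hce'' : act c (e' + δ • e) = e' := by
    rw [act_add, act_smul, hce', hce, add_assoc, vadd_self hF, add_zero]
  have h1 : ∀ z, hermForm n F 2 (act c z) e = hermForm n F 2 z e := by
    intro z
    conv_lhs => rw [← hce]
    rw [herm_act]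
  have h2 : ∀ z, hermForm n F 2 (act c z) e' = hermForm n F 2 z e' + δ * hermForm n F 2 z e := by
    intro z
    conv_lhs => rw [← hce'']
    rw [herm_act, herm_add_right hF, herm_smul_right, hδ]
  -- the commutator
  have hg := hB.comm_mem hw.mem hw.sq hw.ne hcw hx
  have hxe : act x e = e := hfix _ he.1
  have hxwa : act x (act w a) = a + e' + e := by rw [hwa, act_add, hxa, hxe]
  have hform : ∀ y, act (x * c * x⁻¹ * c⁻¹) y = y + hermForm n F 2 y e • (e' + δ • e) +
      hermForm n F 2 y e' • e := by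
    intro y
    obtain ⟨z, rfl⟩ : ∃ z, y = act c z := ⟨_, (act_act_inv _ y).symm⟩
    rw [act_mul, act_inv_act, h1, h2]
    have h3 : act (x * c * x⁻¹) z = z + hermForm n F 2 z (act x (act w a)) • act x (act w a) +
        hermForm n F 2 z (act x a) • act x a := by
      rw [act_mul, act_mul, hc, act_add, act_add, act_smul, act_smul, act_act_inv]
      have h4 : ∀ v, hermForm n F 2 (act x⁻¹ z) v = hermForm n F 2 z (act x v) := by
        intro v
        rw [← herm_act x (act x⁻¹ z) v, act_act_inv]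
      rw [h4, h4]
    rw [h3, hxwa, hxa, hc, hwa]
    simp only [herm_add_right hF]
    funext i
    simp only [Pi.add_apply, Pi.smul_apply, smul_eq_mul]
    linear_combination (hermForm n F 2 z a * e' i + hermForm n F 2 z e' * (a i + e' i)) *
      add_self hF (1 : F) - hermForm n F 2 z e * e i * δ * add_self hF (1 : F)
  obtain ⟨g, hg, hform⟩ : ∃ g ∈ B, ∀ y, act g y = y + hermForm n F 2 y e • (e' + δ • e) +
      hermForm n F 2 y e' • e := ⟨_, hg, hform⟩
  clear hcw hce hce' hce'' h1 h2 hc ht₁ ht₂ hwaa hawa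
  by_cases hκ : ∃ κ : F, e' = κ • e
  · exfalso
    obtain ⟨κ, hκ⟩ := hκ
    have hδ0 : δ = 0 := by rw [hδdef, hκ, herm_smul_right, haN, mul_zero]
    have h3 : ∀ y, act g y = y + ((κ + κ ^ 2) * hermForm n F 2 y e) • e := by
      intro y
      rw [hform, hδ0, hκ, herm_smul_right]
      funext i
      simp only [Pi.add_apply, Pi.smul_apply, smul_eq_mul]
      ring
    have h4 : (κ + κ ^ 2) ^ 2 = κ + κ ^ 2 := by rw [add_pow_q hF, pow_q_pow_q hF, add_comm]
    rcases fixed h4 with h5 | h5
    · have h6 : κ ^ 2 = κ := by linear_combination h5 - add_self hF κ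
      rcases fixed h6 with h7 | h7
      · apply ha
        apply fix_x hF hw hx hxw hfix hx1
        rw [hxa, hκ, h7, zero_smul, add_zero]
      · apply ha
        apply fix_xw hF hw hx hxw hfix hxw1
        rw [act_mul, hxwa, hκ, h7, one_smul, add_assoc, vadd_self hF, add_zero]
    · exact hB.non g hg e hNa hee fun y => by rw [h3, h5, one_mul]
  · push Not at hκ
    -- `g` is an involution
    have hMe : ∀ y, hermForm n F 2 (act g y) e = hermForm n F 2 y e := by
      intro y
      rw [hform]
      simp only [herm_add_left, herm_smul_left, hee, he'e, mul_zero, add_zero]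
    have hMe' : ∀ y, hermForm n F 2 (act g y) e' = hermForm n F 2 y e' := by
      intro y
      rw [hform]
      simp only [herm_add_left, herm_smul_left, hee', he'e', mul_zero, add_zero]
    have hg2 : g * g = 1 := by
      apply ext_act
      intro y
      rw [act_mul, act_one, hform (act g y), hMe, hMe', hform y]
      funext i
      simp only [Pi.add_apply, Pi.smul_apply, smul_eq_mul]
      linear_combination (hermForm n F 2 y e * (e' i + δ * e i) + hermForm n F 2 y e' * e i) * add_self hF (1 : F)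
    have hg1 : g ≠ 1 := by
      intro h
      obtain ⟨z, hz⟩ := exists_herm_ne_zero hF hNa
      have hz' : hermForm n F 2 z e ≠ 0 := fun h => hz (herm_eq_zero_swap hF h)
      have h3 := hform z
      rw [h, act_one, add_assoc] at h3
      have h4 := left_eq_add.1 h3
      apply hκ (δ + (hermForm n F 2 z e)⁻¹ * hermForm n F 2 z e')
      funext i
      have h5 := congrFun h4 i
      simp only [Pi.add_apply, Pi.smul_apply, smul_eq_mul, Pi.zero_apply] at h5 ⊢
      field_simp
      linear_combination h5 - (δ * hermForm n F 2 z e * e i + hermForm n F 2 z e' * e i) * add_self hF (1 : F)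
    have hgfix : ∀ u, act w u = u → act g u = u := by
      intro u hu
      rw [hform, he.left hu, he'.left hu, zero_smul, zero_smul, add_zero, add_zero]
    have hmax := hw.max g hg hg2 hg1 hgfix
    have hga : act g a = a + δ • e := by
      rw [hform, haN, zero_smul, add_zero, ← hδdef]
    have hδ1 : δ = 1 := by
      rcases fixed hδ with h3 | h3
      · exact absurd (hmax a (by rw [hga, h3, zero_smul, add_zero])) ha
      · exact h3
    -- `g = w`
    have hwg : g * w = w * g := by
      apply ext_act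
      intro y
      have h3 : hermForm n F 2 (act w y) e = hermForm n F 2 y e := by rw [herm_w hw.sq, he.1]
      have h4 : hermForm n F 2 (act w y) e' = hermForm n F 2 y e' := by rw [herm_w hw.sq, he'.1]
      rw [act_mul, act_mul, hform, h3, h4, hform, act_add, act_add, act_smul, act_smul, act_add, act_smul, he.1,
        he'.1]
    have hgw : g = w := by
      by_contra hne
      apply ha
      refine hw.max (w * g) (B.mul_mem hw.mem hg) ?_ ?_ ?_ a ?_
      · calc w * g * (w * g) = w * (g * w) * g := by group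
          _ = w * (w * g) * g := by rw [hwg]
          _ = (w * w) * (g * g) := by group
          _ = 1 := by rw [hw.sq, hg2, one_mul]
      · intro h
        apply hne
        calc g = (w * w) * g := by rw [hw.sq, one_mul]
          _ = w * (w * g) := by rw [mul_assoc]
          _ = w := by rw [h, mul_one]
      · intro u hu
        rw [act_mul, hgfix u hu, hu]
      · rw [act_mul, hga, hδ1, one_smul, act_add, he.1, hwa, add_assoc, vadd_self hF, add_zero]
    refine ⟨hδ1, fun y => ?_⟩
    have h3 := hform y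
    rw [hgw, hδ1, one_smul] at h3
    rw [Nw_def, h3]
    have h4 := vadd_self hF y
    calc y + hermForm n F 2 y e • (e' + e) + hermForm n F 2 y e' • e + y
        = (y + y) + (hermForm n F 2 y e • (e' + e) + hermForm n F 2 y e' • e) := by abel
      _ = _ := by rw [h4, zero_add]

/-- the main computation -/
theorem Good.dich (hF : Fintype.card F = 2 ^ 2) (hB : Good B) (hw : MaxI B w) (hx : x ∈ B)
    (hxw : x * w = w * x) (hfix : ∀ u, act w u = u → act x u = u) (hx1 : x ≠ 1)
    (hxw1 : x ≠ w) {a : Fin n → F} (ha : act w a ≠ a) (haN : hermForm n F 2 a (Nw w a) = 0) :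
    hermForm n F 2 a (Nw x a) = 1 ∧ ∀ y, Nw w y = hermForm n F 2 y (Nw w a) • (Nw x a + Nw w a) +
      hermForm n F 2 y (Nw x a) • Nw w a := by
  obtain ⟨y, hy⟩ : ∃ y, hermForm n F 2 (Nw w y) a ≠ 0 := by
    by_contra hcon
    push Not at hcon
    exact ha (fix_of_orth hF hw.sq hcon)
  have hr := Rd_Nw hF hw.sq y
  obtain ⟨t, ht⟩ := exists_iso_correct hF hr.self hy
  have hr' := hr.smul t
  have h1 : Nw w (a + t • Nw w y) = Nw w a := by
    rw [Nw_add, (Nw_eq_zero hF).2 hr'.1, add_zero]
  have h2 : Nw x (a + t • Nw w y) = Nw x a := by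
    rw [Nw_add, (Nw_eq_zero hF).2 (hfix _ hr'.1), add_zero]
  have h3 := hB.dich_iso hF hw hx hxw hfix hx1 hxw1 (a := a + t • Nw w y)
    (fun h => ha ((Nw_eq_zero hF).1 (by rw [← h1]; exact (Nw_eq_zero hF).2 h))) ht (by
      rw [h1, herm_add_left, haN, (Rd_Nw hF hw.sq a).left hr'.1, add_zero])
  rw [h1, h2, herm_add_left, (Rd_Nx hF hw.sq hxw hfix a).left hr'.1, add_zero] at h3
  exact h3

/-- **The 2-elements of `C_B(w)` are `1` and `w`.** -/
theorem Good.eq_one_or (hF : Fintype.card F = 2 ^ 2) (hn : 5 ≤ n) (hB : Good B) (hw : MaxI B w) (hx : x ∈ B)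
    {k : ℕ} (hx2 : x ^ 2 ^ k = 1) (hxw : x * w = w * x) : x = 1 ∨ x = w := by
  by_contra hcon
  push Not at hcon
  obtain ⟨hx1, hxw1⟩ := hcon
  have hfix : ∀ u, act w u = u → act x u = u := fun u hu => hB.fix hF hn hw hx hx2 hxw hu
  obtain ⟨a, ha, haN⟩ := exists_iso_vec hF hw.sq hw.ne (hB.non w hw.mem)
  obtain ⟨hδ, hform⟩ := hB.dich hF hw hx hxw hfix hx1 hxw1 ha haN
  have hxx := sq_x hF hw.sq hxw hfix
  have he : Rd w (Nw w a) := Rd_Nw hF hw.sq a
  have hNa : Nw w a ≠ 0 := fun h => ha ((Nw_eq_zero hF).1 h)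
  -- the vector `b`
  obtain ⟨b₀, hb₀⟩ : ∃ z, hermForm n F 2 z (Nw w a) = 1 := by
    obtain ⟨y, hy⟩ := exists_herm_ne_zero hF hNa
    have h1 : hermForm n F 2 y (Nw w a) ≠ 0 := fun h => hy (herm_eq_zero_swap hF h)
    exact ⟨(hermForm n F 2 y (Nw w a))⁻¹ • y, by rw [herm_smul_left, inv_mul_cancel₀ h1]⟩
  obtain ⟨t, ht⟩ := exists_trace_eq hF (c := hermForm n F 2 b₀ (Nw w b₀)) (by
    rw [← herm_swap hF, herm_Nw hF hw.sq])
  have hab₀ : hermForm n F 2 a (Nw w b₀) = 1 := by
    rw [← herm_Nw hF hw.sq, herm_swap hF, hb₀, one_pow]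
  obtain ⟨b, hbe, hbN⟩ : ∃ b, hermForm n F 2 b (Nw w a) = 1 ∧ hermForm n F 2 b (Nw w b) = 0 := by
    refine ⟨b₀ + t • a, ?_, ?_⟩
    · rw [herm_add_left, herm_smul_left, haN, mul_zero, add_zero, hb₀]
    · rw [Nw_add, Nw_smul, herm_add_left, herm_add_right hF, herm_add_right hF, herm_smul_left, herm_smul_left,
        herm_smul_right, herm_smul_right, haN, hb₀, hab₀, ← ht]
      linear_combination (t + t ^ 2) * add_self hF (1 : F)
  have hb : act w b ≠ b := by
    intro h
    rw [he.left h] at hbe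
    exact zero_ne_one hbe
  obtain ⟨hδb, -⟩ := hB.dich hF hw hx hxw hfix hx1 hxw1 hb hbN
  -- `γ`
  set γ := hermForm n F 2 b (Nw x a) with hγdef
  have hγ : γ + 1 + γ ^ 2 = 0 := by
    have h1 := hform b
    rw [hbe, one_smul, ← hγdef] at h1
    rw [h1, herm_add_right hF, herm_add_right hF, herm_smul_right, hbe, ← hγdef, mul_one] at hbN
    exact hbN
  have hγ0 : γ ≠ 0 := by
    intro h
    rw [h] at hγ
    norm_num at hγ
  have hγ3 := pow_three hF hγ0
  have hab : hermForm n F 2 a (Nw x b) = γ ^ 2 := by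
    rw [← herm_Nw hF hxx, herm_swap hF]
  -- the vector `v`
  have hv : Nw x (b + γ • a) = 0 := by
    apply herm_nondeg hF
    intro y
    apply herm_eq_zero_swap hF
    set p := hermForm n F 2 y (Nw w a) with hp
    set q := hermForm n F 2 y (Nw x a) with hq
    have h1 : hermForm n F 2 (y + p • b + (q + γ * p) • a) (Nw w a) = 0 := by
      rw [herm_add_left, herm_add_left, herm_smul_left, herm_smul_left, ← hp, hbe, haN]
      linear_combination p * add_self hF (1 : F)
    have h2 : hermForm n F 2 (y + p • b + (q + γ * p) • a) (Nw x a) = 0 := by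
      rw [herm_add_left, herm_add_left, herm_smul_left, herm_smul_left, ← hq, ← hγdef, hδ]
      linear_combination (q + p * γ) * add_self hF (1 : F)
    have h3 : Nw w (y + p • b + (q + γ * p) • a) = 0 := by
      rw [hform, h1, h2, zero_smul, zero_smul, add_zero]
    have h4 := (Rd_Nx hF hw.sq hxw hfix (b + γ • a)).left ((Nw_eq_zero hF).1 h3)
    rw [herm_add_left, herm_add_left, herm_smul_left, herm_smul_left] at h4
    have h5 : hermForm n F 2 b (Nw x (b + γ • a)) = 0 := by
      rw [Nw_add, Nw_smul, herm_add_right hF, herm_smul_right, hδb, ← hγdef]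
      linear_combination hγ3 + add_self hF (1 : F)
    have h6 : hermForm n F 2 a (Nw x (b + γ • a)) = 0 := by
      rw [Nw_add, Nw_smul, herm_add_right hF, herm_smul_right, hab, hδ]
      linear_combination γ ^ 2 * add_self hF (1 : F)
    rwa [h5, h6, mul_zero, mul_zero, add_zero, add_zero] at h4
  have h1 := fix_x hF hw hx hxw hfix hx1 ((Nw_eq_zero hF).1 hv)
  have h2 := he.left h1
  rw [herm_add_left, herm_smul_left, haN, mul_zero, add_zero, hbe] at h2
  exact one_ne_zero h2

end Half

end Cfsg.Agent.OddHalf.D4.Un2
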