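import Mathlib
import Cfsg.Agent.OddHalf.D4.Un2.Max
import Cfsg.Agent.OddHalf.D4.Spor.Sheet

/-!
# ODD, D4, row `U_n(2)`: `BadB` is impossible in `PSU_n(2)`, `n ≥ 5`
-/

set_option autoImplicit false

namespace Cfsg.Agent.OddHalf.D4.Un2

open Cfsg Cfsg.Agent.LieClassical.HermBasic Cfsg.Agent.LieClassical.HermSiegel
  Cfsg.Agent.LieClassical.HermGen Cfsg.Agent.ClassicalGeometry.PSUAutBasic
  Cfsg.Agent.ClassicalGeometry.PSUAutSylow Matrix Cfsg.Agent.OddHalf.D4.Spor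

section Two

variable {G : Type*} [Group G]

/-- a finite group with an involution `w` such that the 2-elements of `C(w)` are `1` and `w` -/
theorem not_four_dvd [Finite G] {w : G} (hw : w * w = 1) (hw1 : w ≠ 1)
    (h : ∀ x : G, (∃ k : ℕ, x ^ 2 ^ k = 1) → x * w = w * x → x = 1 ∨ x = w) : ¬ 4 ∣ Nat.card G := by
  intro h4
  have : Fact (Nat.Prime 2) := ⟨Nat.prime_two⟩
  have hwp : IsPGroup 2 ↥(Subgroup.zpowers w) := by
    have h1 : orderOf w = 2 := orderOf_eq_prime (by rw [pow_two, hw]) hw1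
    rw [IsPGroup.iff_card]
    exact ⟨1, by rw [Nat.card_zpowers, h1, pow_one]⟩
  obtain ⟨P, hP⟩ := hwp.exists_le_sylow
  have hwP : w ∈ (P : Subgroup G) := hP (Subgroup.mem_zpowers w)
  have hpow : ∀ x ∈ (P : Subgroup G), ∃ k : ℕ, x ^ 2 ^ k = 1 := by
    intro x hx
    obtain ⟨k, hk⟩ := P.isPGroup' ⟨x, hx⟩
    exact ⟨k, congrArg Subtype.val hk⟩
  have hcard : 4 ∣ Nat.card ↥(P : Subgroup G) := by
    have h1 := P.card_eq_multiplicity
    rw [h1]
    have h2 : 2 ≤ (Nat.card G).factorization 2 := by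
      rw [← Nat.Prime.pow_dvd_iff_le_factorization Nat.prime_two Nat.card_pos.ne']
      exact h4
    exact (pow_dvd_pow 2 h2)
  have : Nontrivial ↥(P : Subgroup G) := by
    rw [← Finite.one_lt_card_iff_nontrivial]
    exact lt_of_lt_of_le (by norm_num) (Nat.le_of_dvd Nat.card_pos hcard)
  have := P.isPGroup'.center_nontrivial
  obtain ⟨⟨z, hz⟩, hz1⟩ := exists_ne (1 : ↥(Subgroup.center ↥(P : Subgroup G)))
  have hzc : ∀ x ∈ (P : Subgroup G), x * (z : G) = z * x := fun x hx =>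
    congrArg Subtype.val (Subgroup.mem_center_iff.1 hz ⟨x, hx⟩)
  have hzw : (z : G) = w := by
    rcases h z (hpow z z.2) (hzc w hwP).symm with h1 | h1
    · exact absurd (Subtype.ext (Subtype.ext h1)) hz1
    · exact h1
  have hsub : ∀ x ∈ (P : Subgroup G), x = 1 ∨ x = w := fun x hx =>
    h x (hpow x hx) (by rw [← hzw]; exact hzc x hx)
  have h2 : Nat.card ↥(P : Subgroup G) ≤ 2 := by
    have h3 : ((P : Subgroup G) : Set G) ⊆ {1, w} := by
      intro x hx
      rcases hsub x hx with h4 | h4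
      · exact Or.inl h4
      · exact Or.inr h4
    calc Nat.card ↥(P : Subgroup G) = ((P : Subgroup G) : Set G).ncard := rfl
      _ ≤ ({1, w} : Set G).ncard := Set.ncard_le_ncard h3 (Set.toFinite _)
      _ ≤ 2 := (Set.ncard_pair (Ne.symm hw1)).le
  have h5 := Nat.le_of_dvd Nat.card_pos hcard
  omega

end Two

variable {F : Type*} [Field F] [Fintype F] {n : ℕ}

/-- 2-elements of `PSU` lift to 2-elements -/
theorem lift_two (hF : Fintype.card F = 2 ^ 2) (hn : 3 ≤ n) {x : PSU n F 2} {k : ℕ} (hx : x ^ 2 ^ k = 1) :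
    ∃ a : SU n F 2, pr n F 2 a = x ∧ ∃ l : ℕ, a ^ 2 ^ l = 1 := by
  have := charP_two hF
  have : Fact (Nat.Prime 2) := ⟨Nat.prime_two⟩
  exact exists_lift hF hn hx

theorem eq_of_pr (hF : Fintype.card F = 2 ^ 2) (hn : 3 ≤ n) {a b : SU n F 2} {k l : ℕ} (ha : a ^ 2 ^ k = 1)
    (hb : b ^ 2 ^ l = 1) (h : pr n F 2 a = pr n F 2 b) : a = b := by
  have := charP_two hF
  have : Fact (Nat.Prime 2) := ⟨Nat.prime_two⟩
  exact eq_of_pr_eq hF hn ha hb h

theorem pow_conj {G : Type*} [Group G] (g a : G) {m : ℕ} (h : a ^ m = 1) : (g * a * g⁻¹) ^ m = 1 := by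
  rw [conj_pow, h, mul_one, mul_inv_cancel]

/-- lifts of commuting elements commute -/
theorem comm_of_pr (hF : Fintype.card F = 2 ^ 2) (hn : 3 ≤ n) {g a : SU n F 2} {k : ℕ} (ha : a ^ 2 ^ k = 1)
    (h : pr n F 2 g * pr n F 2 a = pr n F 2 a * pr n F 2 g) : g * a = a * g := by
  have h1 : g * a * g⁻¹ = a := by
    apply eq_of_pr hF hn (pow_conj g a ha) ha
    rw [map_mul, map_mul, map_inv, h, mul_inv_cancel_right]
  calc g * a = (g * a * g⁻¹) * g := by group
    _ = a * g := by rw [h1]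

/-- lift of an involution -/
theorem lift_inv (hF : Fintype.card F = 2 ^ 2) (hn : 3 ≤ n) {x : PSU n F 2} (hx : x * x = 1) (hx1 : x ≠ 1) :
    ∃ a : SU n F 2, pr n F 2 a = x ∧ a * a = 1 ∧ a ≠ 1 := by
  obtain ⟨a, ha, l, hl⟩ := lift_two hF hn (x := x) (k := 1) (by rw [pow_one, pow_two, hx])
  refine ⟨a, ha, ?_, ?_⟩
  · apply eq_of_pr hF hn (k := l) (l := 0)
    · rw [← pow_two, ← pow_mul, mul_comm, pow_mul, hl, one_pow]
    · exact one_pow _
    · rw [map_mul, ha, hx, map_one]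
  · rintro rfl
    rw [map_one] at ha
    exact hx1 ha.symm

/-- involutions have nontrivial images -/
theorem pr_ne_one (hF : Fintype.card F = 2 ^ 2) (hn : 3 ≤ n) {a : SU n F 2} (ha : a * a = 1) (ha1 : a ≠ 1) :
    pr n F 2 a ≠ 1 := by
  intro h
  apply ha1
  apply eq_of_pr hF hn (k := 1) (l := 0) (by rw [pow_one, pow_two, ha]) (one_pow _)
  rw [h, map_one]

/-- transvections are 2-central -/
theorem cen_tv (hF : Fintype.card F = 2 ^ 2) (hn : 3 ≤ n) {g : SU n F 2} {v : Fin n → F} (hv0 : v ≠ 0)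
    (hv : hermForm n F 2 v v = 0) (hg : ∀ y, act g y = y + hermForm n F 2 y v • v) : Cen (pr n F 2 g) := by
  have := charP_two hF
  have : Fact (Nat.Prime 2) := ⟨Nat.prime_two⟩
  obtain ⟨S⟩ : Nonempty (Sylow 2 (SU n F 2)) := inferInstance
  obtain ⟨u₁, hu₁0, hu₁, hfix₁⟩ := exists_fixed 2 hF (by omega) S.isPGroup'
  obtain ⟨g₀, -, hg₀⟩ := exists_map_iso hF hn le_rfl (mem_coordSub_top u₁) (mem_coordSub_top v)
    hu₁0 hv0 hu₁ hv
  refine ⟨(g₀ • S).mapSurjective pr_surjective, ?_⟩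
  intro s hs
  have hs' : s ∈ (((g₀ • S).mapSurjective (pr_surjective (n := n) (F := F) (q := 2)) : Sylow 2 (PSU n F 2)) :
    Subgroup (PSU n F 2)) := hs
  obtain ⟨x, hx, rfl⟩ := hs'
  have hx' : x ∈ ((g₀ • S : Sylow 2 (SU n F 2)) : Subgroup (SU n F 2)) := hx
  rw [Sylow.coe_subgroup_smul] at hx'
  obtain ⟨s, hsS, rfl⟩ := hx'
  have h1 : act g₀⁻¹ v = u₁ := ((act_eq_iff g₀).1 hg₀).symm
  have h2 : act (g₀ * s * g₀⁻¹) v = v := by
    rw [act_mul, act_mul, h1, hfix₁ s hsS, hg₀]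
  have h3 : (g₀ * s * g₀⁻¹) * g * (g₀ * s * g₀⁻¹)⁻¹ = g := by
    apply ext_act
    intro y
    rw [conj_tv hg, h2, hg]
  show pr n F 2 (g₀ * s * g₀⁻¹) * pr n F 2 g = pr n F 2 g * pr n F 2 (g₀ * s * g₀⁻¹)
  rw [← map_mul, ← map_mul]
  congr 1
  calc g₀ * s * g₀⁻¹ * g = ((g₀ * s * g₀⁻¹) * g * (g₀ * s * g₀⁻¹)⁻¹) * (g₀ * s * g₀⁻¹) := by group
    _ = g * (g₀ * s * g₀⁻¹) := by rw [h3]

/-- **TAB for `U_n(2)`, `n ≥ 5`.** -/
theorem not_badB (hF : Fintype.card F = 2 ^ 2) (hn : 5 ≤ n) (B D : Subgroup (PSU n F 2)) : ¬ BadB B D := by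
  intro h
  have hn3 : 3 ≤ n := by omega
  have : Finite (PSU n F 2) := inferInstance
  have hGood : Good (B.comap (pr n F 2)) := by
    constructor
    · intro w hw hw2 hw1 c hc b hb
      have h1 : pr n F 2 c ∈ D := by
        apply h.cent (pr n F 2 w) hw (by rw [← map_mul, hw2, map_one]) (pr_ne_one hF hn3 hw2 hw1)
        rw [← map_mul, hc, map_mul]
      have h2 := h.norm _ h1 _ hb
      rw [Subgroup.mem_comap, map_mul, map_mul, map_inv]
      exact h2
    · intro g hg v hv0 hv hact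
      have hg2 : g * g = 1 := by
        apply ext_act
        intro y
        rw [act_mul, act_one, hact (act g y), hact y, herm_add_left, herm_smul_left, hv, mul_zero, add_zero,
          add_assoc, vadd_self hF, add_zero]
      have hg1 : g ≠ 1 := by
        rintro rfl
        obtain ⟨y, hy⟩ := exists_herm_ne_zero hF hv0
        have h1 := hact y
        rw [act_one] at h1
        have h2 := left_eq_add.1 h1
        rcases smul_eq_zero.1 h2 with h3 | h3
        · exact hy (herm_eq_zero_swap hF h3)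
        · exact hv0 h3
      exact h.non (pr n F 2 g) hg (by rw [← map_mul, hg2, map_one]) (pr_ne_one hF hn3 hg2 hg1)
        (cen_tv hF hn3 hv0 hv hact)
  have hlift : ∀ x : PSU n F 2, x ∈ B → ∀ a, pr n F 2 a = x → a ∈ B.comap (pr n F 2) := by
    rintro _ hx a rfl
    exact hx
  obtain ⟨w, hw⟩ : ∃ w, MaxI (B.comap (pr n F 2)) w := by
    apply exists_maxI
    have h2 : 2 ∣ Nat.card ↥B := (by norm_num : 2 ∣ 4).trans h.four
    have : Fact (Nat.Prime 2) := ⟨Nat.prime_two⟩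
    obtain ⟨b, hb⟩ := exists_prime_orderOf_dvd_card' 2 h2
    have hb2 : (b : PSU n F 2) * b = 1 := by
      have h3 := pow_orderOf_eq_one b
      rw [hb, pow_two] at h3
      exact congrArg Subtype.val h3
    have hb1 : (b : PSU n F 2) ≠ 1 := by
      intro h3
      have h4 : b = 1 := Subtype.ext h3
      rw [h4, orderOf_one] at hb
      norm_num at hb
    obtain ⟨a, ha, ha2, ha1⟩ := lift_inv hF hn3 hb2 hb1
    exact ⟨a, hlift _ b.2 a ha, ha2, ha1⟩
  apply not_four_dvd (G := ↥B) (w := ⟨pr n F 2 w, hw.mem⟩) (Subtype.ext (by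
      show pr n F 2 w * pr n F 2 w = 1
      rw [← map_mul, hw.sq, map_one])) (fun h1 => pr_ne_one hF hn3 hw.sq hw.ne (congrArg Subtype.val h1)) ?_ h.four
  rintro ⟨x, hx⟩ ⟨k, hk⟩ hxw
  obtain ⟨a, rfl, l, hl⟩ := lift_two hF hn3 (congrArg Subtype.val hk)
  have hwp : w ^ 2 ^ 1 = 1 := by rw [pow_one, pow_two, hw.sq]
  have h1 := comm_of_pr hF hn3 hwp (congrArg Subtype.val hxw)
  rcases hGood.eq_one_or hF hn hw hx hl h1 with h2 | h2
  · left
    apply Subtype.ext
    show pr n F 2 a = 1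
    rw [h2, map_one]
  · right
    apply Subtype.ext
    show pr n F 2 a = pr n F 2 w
    rw [h2]

end Cfsg.Agent.OddHalf.D4.Un2
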