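import Mathlib
import Cfsg.Agent.OddHalf.D4.Un2.Bad

/-!
# ODD, D4, row `U_n(2)`: `O(C(a)) = 1` for the involutions `a` of `PSU_n(2)`; the centre of a Sylow 2-subgroup
-/

set_option autoImplicit false

namespace Cfsg.Agent.OddHalf.D4.Un2

open Cfsg Cfsg.Agent.LieClassical.HermBasic Cfsg.Agent.LieClassical.HermSiegel
  Cfsg.Agent.LieClassical.HermGen Cfsg.Agent.ClassicalGeometry.PSUAutBasic
  Cfsg.Agent.ClassicalGeometry.PSUAutSylow Matrix Cfsg.Agent.OddHalf.D4.Spor

variable {F : Type*} [Field F] [Fintype F] {n : ℕ}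

/-- unipotent maps along `Rd w ≤ fixed space of w` have order dividing 4 -/
theorem unip_four (hF : Fintype.card F = 2 ^ 2) {w : SU n F 2} (hw : w * w = 1)
    {T : (Fin n → F) → (Fin n → F)} (hadd : ∀ x y, T (x + y) = T x + T y)
    (hiso : ∀ x y, hermForm n F 2 (T x) (T y) = hermForm n F 2 x y) (hr : ∀ r, Rd w r → T r = r)
    (hu : ∀ u, act w u = u → Rd w (T u + u)) (y : Fin n → F) : T (T (T (T y))) = y := by
  have hV : ∀ y, act w (T y + y) = T y + y := by
    intro y
    apply fix_of_orth hF hw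
    intro z
    have h1 := hiso (Nw w z) y
    rw [hr _ (Rd_Nw hF hw z)] at h1
    rw [herm_add_right hF, h1, add_self hF]
  obtain ⟨N, hN⟩ : ∃ N : (Fin n → F) → (Fin n → F), ∀ y, N y = T y + y := ⟨_, fun _ => rfl⟩
  have hT : ∀ y, T y = y + N y := by
    intro y
    rw [hN, add_comm (T y) y, ← add_assoc, vadd_self hF, zero_add]
  have hNadd : ∀ x y, N (x + y) = N x + N y := by
    intro x y
    simp only [hN, hadd]
    abel
  have hN0 : ∀ r, Rd w r → N r = 0 := by
    intro r h
    rw [hN, hr r h, vadd_self hF]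
  have hNN : ∀ y, Rd w (N (N y)) := fun y => by
    rw [hN (N y)]
    exact hu _ (by rw [hN]; exact hV y)
  have hTT : ∀ y, T (T y) = y + N (N y) := by
    intro y
    rw [hT y, hadd, hT y, hT (N y)]
    have h3 := vadd_self hF (N y)
    calc y + N y + (N y + N (N y)) = y + (N y + N y) + N (N y) := by abel
      _ = _ := by rw [h3, add_zero]
  rw [hTT, hTT, hNadd, hN0 _ (hNN y), add_zero, add_assoc, vadd_self hF, add_zero]

theorem exists_smul_of_sum' (hF : Fintype.card F = 2 ^ 2) {v v' : Fin n → F}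
    (h : ∀ y, hermForm n F 2 y v • v + hermForm n F 2 y v' • v' = 0) : ∃ c : F, v' = c • v := by
  by_cases h0 : v' = 0
  · exact ⟨0, by rw [h0, zero_smul]⟩
  · exact exists_smul_of_sum hF h0 h

/-- a linear map with all vectors of `Rd w` as eigenvectors is a scalar on it -/
theorem exists_scalar (hF : Fintype.card F = 2 ^ 2) {w x : SU n F 2}
    (h : ∀ r, Rd w r → ∃ c : F, act x r = c • r) : ∃ c : F, c ≠ 0 ∧ ∀ r, Rd w r → act x r = c • r := by
  by_cases h0 : ∃ r₀, Rd w r₀ ∧ r₀ ≠ 0
  · obtain ⟨r₀, hr₀, h0⟩ := h0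
    obtain ⟨l, hl⟩ := h r₀ hr₀
    refine ⟨l, ?_, ?_⟩
    · rintro rfl
      rw [zero_smul] at hl
      exact h0 ((act_eq_zero x).1 hl)
    · intro r hr
      obtain ⟨μ, hμ⟩ := h r hr
      obtain ⟨ν, hν⟩ := h (r + r₀) (hr.add hF hr₀)
      rw [act_add, hμ, hl, smul_add] at hν
      by_cases hμν : μ = ν
      · subst hμν
        have h1 : l • r₀ = μ • r₀ := add_left_cancel hν
        have h2 : l = μ := by
          by_contra hne
          have h3 : (l - μ) • r₀ = 0 := by rw [sub_smul, h1, sub_self]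
          rcases smul_eq_zero.1 h3 with h4 | h4
          · exact hne (sub_eq_zero.1 h4)
          · exact h0 h4
        rw [hμ, h2]
      · have hne : μ - ν ≠ 0 := sub_ne_zero.2 hμν
        have h1 : r = ((μ - ν)⁻¹ * (ν - l)) • r₀ := by
          have h2 : (μ - ν) • r = (ν - l) • r₀ := by
            rw [sub_smul, sub_smul, sub_eq_sub_iff_add_eq_add, hν]
            abel
          rw [mul_smul, ← h2, smul_smul, inv_mul_cancel₀ hne, one_smul]
        rw [h1, act_smul, hl, smul_smul, smul_smul, mul_comm]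
  · push Not at h0
    refine ⟨1, one_ne_zero, fun r hr => ?_⟩
    rw [h0 r hr, act_zero, smul_zero]

/-- **`O(C(a)) = 1`** -/
theorem bal (hF : Fintype.card F = 2 ^ 2) (hn : 3 ≤ n) (a : PSU n F 2) (ha : a * a = 1) (ha1 : a ≠ 1)
    (I : Subgroup (PSU n F 2)) (hIa : ∀ i ∈ I, i * a = a * i)
    (hIn : ∀ c, c * a = a * c → ∀ i ∈ I, c * i * c⁻¹ ∈ I) (hodd : Odd (Nat.card ↥I)) : I = ⊥ := by
  obtain ⟨w, rfl, hw, -⟩ := lift_inv hF hn ha ha1
  rw [Subgroup.eq_bot_iff_forall]
  intro i hi
  have hpow : ∀ j ∈ I, ∀ m : ℕ, j ^ 2 ^ m = 1 → j = 1 := by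
    intro j hj m hm
    have h1 : orderOf j ∣ 2 ^ m := orderOf_dvd_of_pow_eq_one hm
    have h2 : orderOf j ∣ Nat.card ↥I := by
      have h3 := orderOf_dvd_natCard (⟨j, hj⟩ : ↥I)
      rwa [Subgroup.orderOf_mk] at h3
    have h3 : Nat.Coprime (2 ^ m) (Nat.card ↥I) := Nat.Coprime.pow_left m (Nat.coprime_two_left.2 hodd)
    have h4 := Nat.eq_one_of_dvd_coprimes h3 h1 h2
    exact orderOf_eq_one_iff.1 h4
  obtain ⟨x, rfl⟩ := pr_surjective i
  have hwp : w ^ 2 ^ 1 = 1 := by rw [pow_one, pow_two, hw]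
  have hxw : x * w = w * x := comm_of_pr hF hn hwp (hIa _ hi)
  -- commutators
  have hcomm : ∀ c : SU n F 2, c * w = w * c → (x * c * x⁻¹ * c⁻¹) ^ 2 ^ 2 = 1 → x * c * x⁻¹ * c⁻¹ = 1 := by
    intro c hc h4
    have h1 : pr n F 2 (x * c * x⁻¹ * c⁻¹) ∈ I := by
      have h2 := hIn (pr n F 2 c) (by rw [← map_mul, hc, map_mul]) _ (I.inv_mem hi)
      have h3 := I.mul_mem hi h2
      have e : pr n F 2 (x * c * x⁻¹ * c⁻¹) = pr n F 2 x * (pr n F 2 c * (pr n F 2 x)⁻¹ * (pr n F 2 c)⁻¹) := by
        rw [map_mul, map_mul, map_mul, map_inv, map_inv]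
        group
      rw [e]; exact h3
    have h2 := hpow _ h1 2 (by rw [← map_pow, h4, map_one])
    exact eq_of_pr hF hn h4 (l := 0) (one_pow _) (by rw [h2, map_one])
  -- transvections
  have hsc : ∀ r, Rd w r → ∃ c : F, act x r = c • r := by
    intro r hr
    obtain ⟨t, ht⟩ := exists_tv hF hr.self
    have htw := tv_comm hw ht hr.1
    have hrr := hr.self
    have hrx : hermForm n F 2 r (act x r) = 0 := (hr.map hxw).left hr.1
    have htt : ∀ y, act t (act t y) = y := by
      intro y
      rw [ht (act t y), ht y, herm_add_left, herm_smul_left, hrr, mul_zero, add_zero, add_assoc,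
        vadd_self hF, add_zero]
    have hform : ∀ y, act (x * t * x⁻¹ * t⁻¹) y = y + hermForm n F 2 y r • r +
        hermForm n F 2 y (act x r) • act x r := by
      intro y
      have h1 : act t⁻¹ y = act t y := by
        rw [← htt y, act_inv_act, htt]
      rw [act_mul, h1, conj_tv ht, ht, herm_add_left, herm_smul_left, hrx, mul_zero, add_zero]
    have h4 : (x * t * x⁻¹ * t⁻¹) ^ 2 ^ 2 = 1 := by
      apply ext_act
      intro y
      have h5 := unip_four hF hw (T := act (x * t * x⁻¹ * t⁻¹)) (act_add _) (herm_act _) (by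
        intro r' hr'
        rw [hform, hr.left hr'.1, (hr.map hxw).left hr'.1, zero_smul, zero_smul, add_zero, add_zero]) (by
        intro u hu
        rw [hform, hr.left hu, (hr.map hxw).left hu, zero_smul, zero_smul, add_zero, add_zero, vadd_self hF]
        exact ⟨act_zero w, fun u _ => herm_zero_right hF u⟩) y
      rw [show (2 : ℕ) ^ 2 = 4 by norm_num, act_one]
      simp only [pow_succ, pow_zero, one_mul, act_mul] at h5 ⊢
      exact h5
    have h6 := hcomm t htw h4
    apply exists_smul_of_sum' hF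
    intro y
    have h7 := hform y
    rw [h6, act_one, add_assoc] at h7
    exact left_eq_add.1 h7
  obtain ⟨l, hl0, hl⟩ := exists_scalar hF hsc
  have hl3 := pow_three hF hl0
  -- Siegel elements
  have hsg : ∀ u, act w u = u → Rd w (l ^ 2 • act x u + u) := by
    intro u hu
    have hfu : act w (l ^ 2 • act x u + u) = l ^ 2 • act x u + u := by
      rw [act_add, act_smul, fix_act hxw hu, hu]
    refine ⟨hfu, fun y hy => ?_⟩
    by_cases h0 : ∃ r, Rd w r ∧ r ≠ 0
    · obtain ⟨r, hr, h0⟩ := h0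
      obtain ⟨μ, hμ⟩ := exists_siegel hF hr.self (hr.left hu)
      have hcw : siegel hF r u μ hμ * w = w * siegel hF r u μ hμ := siegel_comm hF hμ hr.1 hu
      set ψ := siegel hF r u μ hμ with hψ
      have h1 : ∀ z, act w z = z → act ψ z = z + hermForm n F 2 z u • r := by
        intro z hz
        rw [hψ, act_siegel, hr.left hz, mul_zero, zero_smul, zero_sub, neg_self hF, add_zero]
      have h2 : ∀ z, act w z = z → act (x * ψ * x⁻¹) z = z + hermForm n F 2 z (act x u) • act x r := by
        intro z hz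
        rw [hψ, conj_siegel hF hμ x, act_siegel, (hr.map hxw).left hz, mul_zero, zero_smul, zero_sub, neg_self hF,
          add_zero]
      have h3 : ∀ z, Rd w z → act ψ z = z := by
        intro z hz
        rw [h1 z hz.1, hz.right hF hu, zero_smul, add_zero]
      have h4 : ∀ z, Rd w z → act (x * ψ * x⁻¹ * ψ⁻¹) z = z := by
        intro z hz
        have h5 : act ψ⁻¹ z = z := by
          conv_lhs => rw [← h3 z hz]
          rw [act_inv_act]
        rw [act_mul, h5, h2 z hz.1, hz.right hF (fix_act hxw hu), zero_smul, add_zero]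
      have h6 : ∀ y, act w y = y → act (x * ψ * x⁻¹ * ψ⁻¹) (act ψ y) = act ψ y +
          (hermForm n F 2 y u • r + hermForm n F 2 y (act x u) • act x r) := by
        intro y hy
        rw [act_mul, act_inv_act, h2 y hy, h1 y hy]
        have h7 := vadd_self hF (hermForm n F 2 y u • r)
        calc y + hermForm n F 2 y (act x u) • act x r
            = y + (hermForm n F 2 y u • r + hermForm n F 2 y u • r) + hermForm n F 2 y (act x u) • act x r := by
              rw [h7, add_zero]
          _ = _ := by abel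
      have h7 : (x * ψ * x⁻¹ * ψ⁻¹) ^ 2 ^ 2 = 1 := by
        apply ext_act
        intro y
        have h5 := unip_four hF hw (T := act (x * ψ * x⁻¹ * ψ⁻¹)) (act_add _) (herm_act _) h4 (by
          intro v hv
          obtain ⟨z, rfl⟩ : ∃ z, v = act ψ z := ⟨_, (act_act_inv _ v).symm⟩
          have hz : act w z = z := (fix_act_iff hcw).1 hv
          rw [h6 z hz, add_comm (act ψ z), add_assoc, vadd_self hF, add_zero]
          exact (hr.smul _).add hF ((hr.map hxw).smul _)) y
        rw [show (2 : ℕ) ^ 2 = 4 by norm_num, act_one]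
        simp only [pow_succ, pow_zero, one_mul, act_mul] at h5 ⊢
        exact h5
      have h8 := hcomm ψ hcw h7
      have h9 := h6 y hy
      rw [h8, act_one] at h9
      have h10 := left_eq_add.1 h9
      rw [hl r hr, smul_smul, ← add_smul, smul_eq_zero] at h10
      have h11 := h10.resolve_right h0
      rw [herm_add_right hF, herm_smul_right]
      linear_combination h11 + l * hermForm n F 2 y (act x u) * hl3
    · push Not at h0
      have h1 : ∀ z, act w z = z := by
        intro z
        rw [← Nw_eq_zero hF]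
        exact h0 _ (Rd_Nw hF hw z)
      exfalso
      apply ha1
      have h2 : w = 1 := ext_act fun z => by rw [h1, act_one]
      rw [h2, map_one]
  -- the fourth power is a scalar
  have h4 : ∀ y, act (x ^ 4) y = l • y := by
    intro y
    have h5 := unip_four hF hw (T := fun y => l ^ 2 • act x y) (fun x' y => by rw [act_add, smul_add])
      (fun x' y => by
        rw [herm_smul_left, herm_smul_right, herm_act]
        linear_combination (l ^ 3 + 1) * hermForm n F 2 x' y * hl3)
      (fun r hr => by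
        rw [hl r hr, smul_smul]
        have : l ^ 2 * l = 1 := by linear_combination hl3
        rw [this, one_smul]) hsg y
    simp only [act_smul, smul_smul] at h5
    have h6 : act (x ^ 4) y = act x (act x (act x (act x y))) := by
      simp only [pow_succ, pow_zero, one_mul, act_mul]
    rw [h6]
    have h7 : l • y = (l * (l ^ 2 * (l ^ 2 * (l ^ 2 * l ^ 2)))) • act x (act x (act x (act x y))) := by
      rw [mul_smul, h5]
    have h8 : l * (l ^ 2 * (l ^ 2 * (l ^ 2 * l ^ 2))) = 1 := by
      linear_combination (l ^ 6 + l ^ 3 + 1) * hl3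
    rw [h8, one_smul] at h7
    exact h7.symm
  apply hpow _ hi 2
  rw [← map_pow, show (2 : ℕ) ^ 2 = 4 by norm_num]
  exact pr_eq_one_iff.2 (mem_center_of_act h4)

theorem mem_center_sylow (hF : Fintype.card F = 2 ^ 2) (hn : 3 ≤ n) (S : Sylow 2 (PSU n F 2)) :
    ∃ (u : Fin n → F) (_ : u ≠ 0) (hu : hermForm n F 2 u u = 0) (h : (1 : F) + 1 ^ 2 = 0),
      ∀ a ∈ S, a ≠ 1 → (∀ s ∈ S, s * a = a * s) → a = pr n F 2 (transv hF u hu 1 h) := by
  have := charP_two hF
  have : Fact (Nat.Prime 2) := ⟨Nat.prime_two⟩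
  obtain ⟨T, hT⟩ := exists_sylow_lift 2 S
  obtain ⟨u, hu0, hu, hfix⟩ := exists_fixed 2 hF (by omega) T.isPGroup'
  have h1 := cent_sylow 2 hF hn T hu0 hu hfix
  have h : (1 : F) + 1 ^ 2 = 0 := by rw [one_pow, add_self hF]
  refine ⟨u, hu0, hu, h, ?_⟩
  intro a ha ha1 hc
  rw [hT] at h1
  have h2 : a ∈ cent (S : Subgroup (PSU n F 2)) :=
    ⟨ha, Subgroup.mem_centralizer_iff.2 fun s hs => hc s hs⟩
  rw [h1] at h2
  obtain ⟨_, ⟨μ, hμ, rfl⟩, rfl⟩ := h2
  have h3 : μ ^ 2 = μ := by linear_combination hμ - add_self hF μ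
  rcases fixed h3 with h4 | h4
  · exfalso
    subst h4
    apply ha1
    rw [transv_zero, map_one]
  · subst h4
    rfl

/-- the centre of a Sylow 2-subgroup contains only one involution -/
theorem z1 (hF : Fintype.card F = 2 ^ 2) (hn : 3 ≤ n) (S : Sylow 2 (PSU n F 2)) (a : PSU n F 2) (ha : a ∈ S)
    (ha1 : a ≠ 1) (hac : ∀ s ∈ S, s * a = a * s) (b : PSU n F 2) (hb : b ∈ S) (hb1 : b ≠ 1)
    (hbc : ∀ s ∈ S, s * b = b * s) : a = b := by
  obtain ⟨u, _, hu, h, key⟩ := mem_center_sylow hF hn S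
  rw [key a ha ha1 hac, key b hb hb1 hbc]

end Cfsg.Agent.OddHalf.D4.Un2
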