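import Mathlib
import Cfsg.Agent.OddHalf.D4.Un2.Bal
import Cfsg.Agent.OddHalf.Table.OutUSix

/-!
# ODD, D4, row `U_n(2)`: automorphisms of `PSU_n(2)`
-/

set_option autoImplicit false

namespace Cfsg.Agent.OddHalf.D4.Un2

open Cfsg Cfsg.Agent.LieClassical.HermBasic Cfsg.Agent.LieClassical.HermSiegel
  Cfsg.Agent.LieClassical.HermGen Cfsg.Agent.ClassicalGeometry.PSUAutBasic
  Cfsg.Agent.ClassicalGeometry.PSUAutSylow Matrix Cfsg.Agent.OddHalf.D4.Spor
open Cfsg.Agent.ClassicalGeometry.PSUAutCount (gm toAut semiConj act_semiConj herm_semi gm_inv_mulVec gm_mulVec_inv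
  gm_mul gm_mul_inv herm_gm)
open Cfsg.Agent.ClassicalGeometry.PSUAutMain (toAut_pr' exists_toAut)
open Cfsg.Agent.ClassicalGeometry.PSUAutExt (semiConj_siegel)
open Cfsg.Agent.Schreier.PSU (f₁ f₂ toAut_eq mapGU conj_field f₁_eq_conj)

variable {F : Type*} [Field F] [Fintype F] {n : ℕ}

/-- the cube of a linear automorphism is inner -/
theorem cube_inn (hF : Fintype.card F = 2 ^ 2) (A : GU n F 2) : Inn ((f₁ A : MulAut (PSU n F 2)) ^ 3) := by
  have hdet : (gm (A ^ 3)).det = 1 := by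
    have h3 : gm (A ^ 3) = gm A * gm A * gm A := by
      rw [pow_succ, pow_two]; rfl
    have h4 : (gm A).det ≠ 0 := by
      intro h
      have := congrArg Matrix.det (gm_mul_inv A)
      rw [det_mul, h, zero_mul, det_one] at this
      exact zero_ne_one this
    have h5 := FiniteField.pow_card_sub_one_eq_one (gm A).det h4
    rw [hF] at h5
    rw [h3, det_mul, det_mul, ← h5]
    ring
  let g : SU n F 2 := mkSU (gm (A ^ 3)) hdet (fun u v => herm_gm _ u v)
  exact ⟨pr n F 2 g, by rw [← map_pow]; exact f₁_eq_conj (A ^ 3) g rfl⟩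

omit [Fintype F] in
theorem Inn.pow {X : Type*} [Group X] {α : MulAut X} (h : Inn α) (m : ℕ) : Inn (α ^ m) := by
  obtain ⟨k, rfl⟩ := h
  exact ⟨k ^ m, by rw [map_pow]⟩

/-- linear 2-automorphisms are inner -/
theorem inn_of_linear (hF : Fintype.card F = 2 ^ 2) {A : GU n F 2} {k : ℕ}
    (hk : (toAut A 1 : MulAut (PSU n F 2)) ^ 2 ^ k = 1) : Inn (toAut A 1 : MulAut (PSU n F 2)) := by
  have h1 : Nat.Coprime 3 (orderOf (toAut A 1 : MulAut (PSU n F 2))) := by
    have h2 : orderOf (toAut A 1 : MulAut (PSU n F 2)) ∣ 2 ^ k := orderOf_dvd_of_pow_eq_one hk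
    exact Nat.Coprime.coprime_dvd_right h2 (Nat.Coprime.pow_right k (by norm_num))
  obtain ⟨m, hm⟩ := exists_pow_eq_self_of_coprime h1
  rw [← hm]
  exact Inn.pow (cube_inn hF A) m

/-- the semilinear map -/
def GG (A : GU n F 2) (ρ : F ≃+* F) (y : Fin n → F) : Fin n → F := gm A *ᵥ fun i => ρ (y i)

section GG

variable (A : GU n F 2) (ρ : F ≃+* F)

omit [Fintype F] in
theorem GG_add (x y : Fin n → F) : GG A ρ (x + y) = GG A ρ x + GG A ρ y := by
  rw [GG, GG, GG, ← mulVec_add]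
  congr 1
  funext i
  simp

omit [Fintype F] in
theorem GG_smul (c : F) (y : Fin n → F) : GG A ρ (c • y) = ρ c • GG A ρ y := by
  rw [GG, GG, ← mulVec_smul]
  congr 1
  funext i
  simp

omit [Fintype F] in
theorem GG_zero : GG A ρ 0 = 0 := by
  have h := GG_smul A ρ 0 0
  rwa [map_zero, zero_smul, zero_smul] at h

omit [Fintype F] in
theorem GG_surj (x : Fin n → F) : ∃ y, GG A ρ y = x := by
  refine ⟨fun j => ρ.symm ((gm A⁻¹ *ᵥ x) j), ?_⟩
  rw [GG]
  simp only [RingEquiv.apply_symm_apply]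
  rw [gm_mulVec_inv]

omit [Fintype F] in
theorem herm_GG (x y : Fin n → F) : hermForm n F 2 (GG A ρ x) (GG A ρ y) = ρ (hermForm n F 2 x y) :=
  herm_semi A ρ x y

omit [Fintype F] in
theorem act_semi (g : SU n F 2) (y : Fin n → F) : act (semiConj A ρ g) (GG A ρ y) = GG A ρ (act g y) :=
  act_semiConj A ρ g y

omit [Fintype F] in
theorem GG_ne_zero {y : Fin n → F} (hy : y ≠ 0) : GG A ρ y ≠ 0 := by
  intro h
  apply hy
  have h1 : gm A⁻¹ *ᵥ GG A ρ y = 0 := by rw [h, mulVec_zero]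
  rw [GG, gm_inv_mulVec] at h1
  funext i
  have h2 := congrFun h1 i
  simpa using h2

end GG

omit [Fintype F] in
/-- `ρ` is trivial if `c • v` and `ρ c • v` always agree -/
theorem rho_eq_one {ρ : F ≃+* F} (h : ∀ c, ρ c = c) : ρ = 1 := RingEquiv.ext h

/-- the semilinear map of an automorphism fixing a Sylow 2-subgroup -/
theorem rho_of_sylow (hF : Fintype.card F = 2 ^ 2) (hn : 5 ≤ n) (S : Sylow 2 (PSU n F 2)) (A : GU n F 2)
    (ρ : F ≃+* F) (h : ∀ x ∈ S, toAut A ρ x = x) : ρ = 1 := by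
  have := charP_two hF
  have : Fact (Nat.Prime 2) := ⟨Nat.prime_two⟩
  have hn3 : 3 ≤ n := by omega
  obtain ⟨T, hT⟩ := exists_sylow_lift 2 S
  obtain ⟨u, hu0, hu, hfix⟩ := exists_fixed 2 hF (by omega) T.isPGroup'
  have hle := siegG_le_sylow 2 hF T hu hfix
  have hS : ∀ c ∈ siegG hF u hu, semiConj A ρ c = c := by
    intro c hc
    obtain ⟨k, hk⟩ := T.isPGroup' ⟨c, hle hc⟩
    have hk' : c ^ 2 ^ k = 1 := congrArg Subtype.val hk
    apply eq_of_pr hF hn3 (k := k) (l := k) (by rw [← map_pow, hk', map_one]) hk'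
    have h1 : pr n F 2 c ∈ S := by
      show pr n F 2 c ∈ (S : Subgroup (PSU n F 2))
      rw [← hT]
      exact ⟨c, hle hc, rfl⟩
    rw [← toAut_pr']
    exact h _ h1
  have hsg : ∀ (w : Fin n → F) (μ : F) (hs : IsSiegel 2 u w μ) (y : Fin n → F),
      hermForm n F 2 y (GG A ρ u) • GG A ρ w +
        (ρ μ * hermForm n F 2 y (GG A ρ u) - hermForm n F 2 y (GG A ρ w)) • GG A ρ u =
      hermForm n F 2 y u • w + (μ * hermForm n F 2 y u - hermForm n F 2 y w) • u := by
    intro w μ hs y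
    have h1 := hS _ ⟨w, μ, hs, rfl⟩
    rw [semiConj_siegel] at h1
    have h2 := congrArg (fun g => act g y) h1
    simp only [act_siegel] at h2
    rw [add_assoc, add_assoc] at h2
    exact add_left_cancel h2
  -- `G u = κ u`
  obtain ⟨κ, hκ⟩ : ∃ κ : F, GG A ρ u = κ • u := by
    have h1 : (1 : F) + 1 ^ 2 = 0 := by rw [one_pow, add_self hF]
    apply exists_smul_of_sum' hF
    intro y
    have h2 := hsg 0 1 (isSiegel_zero hu h1) y
    rw [GG_zero, smul_zero, smul_zero, zero_add, zero_add, herm_zero_right hF, sub_zero, sub_zero, map_one, one_mul,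
      one_mul] at h2
    rw [h2, vadd_self hF]
  have hκ0 : κ ≠ 0 := by
    rintro rfl
    rw [zero_smul] at hκ
    exact GG_ne_zero A ρ hu0 hκ
  have key : ∀ y w, hermForm n F 2 y u = 0 → hermForm n F 2 w u = 0 →
      hermForm n F 2 y w = κ * hermForm n F 2 y (GG A ρ w) := by
    intro y w hy hw
    obtain ⟨μ, hμ⟩ := exists_siegel hF hu hw
    have h1 := hsg w μ hμ y
    rw [hκ, herm_smul_right, hy, mul_zero, zero_smul, mul_zero, mul_zero, zero_smul, zero_add, zero_add, zero_sub,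
      zero_sub, smul_smul] at h1
    have h2 : (-hermForm n F 2 y (GG A ρ w) * κ - -hermForm n F 2 y w) • u = 0 := by
      rw [sub_smul, h1, sub_self]
    rcases smul_eq_zero.1 h2 with h3 | h3
    · linear_combination h3
    · exact absurd h3 hu0
  obtain ⟨s, hs⟩ := exists_herm_ne_zero hF hu0
  obtain ⟨y, w, hy, -, hw, -, hyw⟩ := exists_pair hF hn hu0 (s := s) (fun c hc => hs (by
    rw [hc, herm_smul_right, hu, mul_zero]))
  apply rho_eq_one
  intro c
  have h1 := key y w hy hw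
  have h2 := key y (c • w) hy (by rw [herm_smul_left, hw, mul_zero])
  rw [GG_smul, herm_smul_right, herm_smul_right] at h2
  have h3 : (c ^ 2 - ρ c ^ 2) * hermForm n F 2 y w = 0 := by
    linear_combination h2 - ρ c ^ 2 * h1
  rcases mul_eq_zero.1 h3 with h4 | h4
  · exact ((pow_q_inj hF).1 (sub_eq_zero.1 h4)).symm
  · exact absurd h4 hyw

/-- 2-elements of `Aut` centralizing a Sylow 2-subgroup are inner -/
theorem sylAut (hF : Fintype.card F = 2 ^ 2) (hn : 5 ≤ n) (S : Sylow 2 (PSU n F 2)) (α : MulAut (PSU n F 2))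
    (hα : IsPGroup 2 ↥(Subgroup.zpowers α)) (h : ∀ x ∈ S, α x = x) : Inn α := by
  obtain ⟨A, ρ, rfl⟩ := exists_toAut hF (by omega) (by omega) α
  have hρ := rho_of_sylow hF hn S A ρ h
  subst hρ
  obtain ⟨k, hk⟩ := hα ⟨_, Subgroup.mem_zpowers _⟩
  exact inn_of_linear hF (congrArg Subtype.val hk)

/-- **OUT2** -/
theorem out2 (hF : Fintype.card F = 2 ^ 2) (hn : 5 ≤ n) (α : MulAut (PSU n F 2)) (hα : ¬ Inn α) (hα2 : α * α = 1)
    (w : PSU n F 2) (hw : w * w = 1) (hw1 : w ≠ 1) (hnc : ¬ Cen w) (hαw : α w = w)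
    (h : ∀ c : PSU n F 2, c * w = w * c → α c = c ∨ α c = w * c) : False := by
  have hn3 : 3 ≤ n := by omega
  obtain ⟨A, ρ, rfl⟩ := exists_toAut hF hn3 (by omega) α
  have hρ : ρ ≠ 1 := by
    rintro rfl
    exact hα (inn_of_linear hF (k := 1) (by rw [pow_one, pow_two]; exact hα2))
  apply hρ
  obtain ⟨w, rfl, hw2, hw1'⟩ := lift_inv hF hn3 hw hw1
  have hwp : w ^ 2 ^ 1 = 1 := by rw [pow_one, pow_two, hw2]
  have hSw : semiConj A ρ w = w := by
    apply eq_of_pr hF hn3 (k := 1) (l := 1) (by rw [← map_pow, hwp, map_one]) hwp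
    rw [← toAut_pr']
    exact hαw
  have hGw : ∀ y, act w (GG A ρ y) = GG A ρ (act w y) := by
    intro y
    rw [← act_semi, hSw]
  have hGfix : ∀ {u}, act w u = u → act w (GG A ρ u) = GG A ρ u := by
    intro u hu
    rw [hGw, hu]
  have hGfix' : ∀ {u}, act w (GG A ρ u) = GG A ρ u → act w u = u := by
    intro u hu
    rw [hGw] at hu
    by_contra hne
    have h1 : act w u - u ≠ 0 := sub_ne_zero.2 hne
    apply GG_ne_zero A ρ h1
    rw [sub_eq_add_neg, GG_add, hu, ← GG_add, add_neg_cancel, GG_zero]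
  have hGRd : ∀ {r}, Rd w r → Rd w (GG A ρ r) := by
    intro r hr
    refine ⟨hGfix hr.1, fun u hu => ?_⟩
    obtain ⟨u', rfl⟩ := GG_surj A ρ u
    rw [herm_GG, hr.2 u' (hGfix' hu), map_zero]
  have hS : ∀ c : SU n F 2, (∃ k : ℕ, c ^ 2 ^ k = 1) → c * w = w * c →
      semiConj A ρ c = c ∨ semiConj A ρ c = w * c := by
    rintro c ⟨k, hk⟩ hc
    have hwc : (w * c) ^ 2 ^ (k + 1) = 1 := by
      have h1 : Commute w c := hc.symm
      rw [h1.mul_pow, pow_succ, mul_comm (2 ^ k) 2, pow_mul, pow_mul, pow_two, pow_two, hw2, one_pow, one_mul,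
        ← pow_two, ← pow_mul, mul_comm, pow_mul, hk, one_pow]
    rcases h (pr n F 2 c) (by rw [← map_mul, hc, map_mul]) with h1 | h1
    · left
      apply eq_of_pr hF hn3 (k := k) (l := k) (by rw [← map_pow, hk, map_one]) hk
      rw [← toAut_pr', h1]
    · right
      apply eq_of_pr hF hn3 (k := k) (l := k + 1) (by rw [← map_pow, hk, map_one]) hwc
      rw [← toAut_pr', h1, map_mul]
  have hnt : ∀ v : Fin n → F, v ≠ 0 → hermForm n F 2 v v = 0 → ¬ ∀ y, act w y = y + hermForm n F 2 y v • v :=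
    fun v hv0 hv hact => hnc (cen_tv hF hn3 hv0 hv hact)
  obtain ⟨a, ha, haN⟩ := exists_iso_vec hF hw2 hw1' hnt
  have hr₀ := Rd_Nw hF hw2 a
  have hNa : Nw w a ≠ 0 := fun h => ha ((Nw_eq_zero hF).1 h)
  by_cases hiso : ∀ y u, act w y = y → act w u = u → hermForm n F 2 y u = 0
  · -- the fixed space is totally isotropic
    have hev : ∀ v, act w v = v → ∃ κ : F, GG A ρ v = κ • v := by
      intro v hv
      by_contra hcon
      push Not at hcon
      have hv0 : v ≠ 0 := by
        rintro rfl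
        exact hcon 0 (by rw [GG_zero, smul_zero])
      have hvv := hiso v v hv hv
      obtain ⟨t, ht⟩ := exists_tv hF hvv
      have htt : ∀ y, act t (act t y) = y := by
        intro y
        rw [ht (act t y), ht y, herm_add_left, herm_smul_left, hvv, mul_zero, add_zero, add_assoc,
          vadd_self hF, add_zero]
      have hSt : ∀ y, act (semiConj A ρ t) y = y + hermForm n F 2 y (GG A ρ v) • GG A ρ v := by
        intro y
        obtain ⟨y, rfl⟩ := GG_surj A ρ y
        rw [act_semi, ht, GG_add, GG_smul, herm_GG]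
      rcases hS t ⟨1, by rw [pow_one, pow_two]; exact ext_act fun y => by rw [act_mul, htt, act_one]⟩
        (tv_comm hw2 ht hv) with h1 | h1
      · obtain ⟨κ, hκ⟩ := exists_smul_of_sum' hF (v := v) (v' := GG A ρ v) (fun y => by
          have h2 := hSt y
          rw [h1, ht] at h2
          rw [← add_left_cancel h2, vadd_self hF])
        exact hcon κ hκ
      · obtain ⟨y₁, y₂, h2, h3, h4, h5, h6⟩ := exists_pair hF hn hv0 hcon
        have h7 : ∀ y, hermForm n F 2 y v = 0 → hermForm n F 2 y (GG A ρ v) = 0 → act w y = y := by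
          intro y h8 h9
          have h10 := hSt y
          rw [h1, act_mul, ht, h8, h9, zero_smul, zero_smul, add_zero] at h10
          exact h10
        exact h6 (hiso y₁ y₂ (h7 _ h2 h3) (h7 _ h4 h5))
    obtain ⟨z, hz⟩ := exists_herm_ne_zero hF hNa
    have hz' : hermForm n F 2 a (Nw w z) ≠ 0 := by rwa [← herm_Nw hF hw2]
    have hind : ∀ κ : F, Nw w z ≠ κ • Nw w a := by
      intro κ hκ
      rw [hκ, herm_smul_right, haN, mul_zero] at hz'
      exact hz' rfl
    obtain ⟨l₁, hl₁⟩ := hev _ (act_Nw hw2 a)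
    obtain ⟨l₂, hl₂⟩ := hev _ (act_Nw hw2 z)
    have hl₁0 : l₁ ≠ 0 := by
      rintro rfl
      rw [zero_smul] at hl₁
      exact GG_ne_zero A ρ hNa hl₁
    have h1 : ∀ c : F, c ≠ 0 → ρ c * l₂ = l₁ * c := by
      intro c hc
      obtain ⟨ν, hν⟩ := hev (Nw w a + c • Nw w z) (by
        rw [act_add, act_smul, act_Nw hw2, act_Nw hw2])
      rw [GG_add, GG_smul, hl₁, hl₂, smul_add, smul_smul, smul_smul] at hν
      have h2 : (ρ c * l₂ - ν * c) • Nw w z = (ν - l₁) • Nw w a := by
        rw [sub_smul, sub_smul, sub_eq_sub_iff_add_eq_add, add_comm (ν • Nw w a), add_comm _ (l₁ • Nw w a), hν]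
        abel
      have h3 : ρ c * l₂ - ν * c = 0 := by
        by_contra h3
        apply hind ((ρ c * l₂ - ν * c)⁻¹ * (ν - l₁))
        rw [mul_smul, ← h2, smul_smul, inv_mul_cancel₀ h3, one_smul]
      rw [h3, zero_smul] at h2
      rcases smul_eq_zero.1 h2.symm with h4 | h4
      · linear_combination h3 + c * h4
      · exact absurd h4 hNa
    have h2 := h1 1 one_ne_zero
    rw [map_one, one_mul, mul_one] at h2
    apply rho_eq_one
    intro c
    by_cases hc : c = 0
    · rw [hc, map_zero]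
    · have h3 := h1 c hc
      rw [h2, mul_comm] at h3
      exact mul_left_cancel₀ hl₁0 h3
  · push Not at hiso
    obtain ⟨y₀, u₀, hy₀, hu₀, h0⟩ := hiso
    have key : ∀ r, Rd w r → hermForm n F 2 y₀ u₀ • r = hermForm n F 2 y₀ (GG A ρ u₀) • GG A ρ r := by
      intro r hr
      obtain ⟨μ, hμ⟩ := exists_siegel hF hr.self (hr.left hu₀)
      have hcw := siegel_comm hF hμ hr.1 hu₀
      have h1 : act (siegel hF r u₀ μ hμ) y₀ = y₀ + hermForm n F 2 y₀ u₀ • r := by
        rw [act_siegel, hr.left hy₀, mul_zero, zero_smul, zero_sub, neg_self hF, add_zero]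
      have h2 : act (semiConj A ρ (siegel hF r u₀ μ hμ)) y₀ = y₀ +
          hermForm n F 2 y₀ (GG A ρ u₀) • GG A ρ r := by
        rw [semiConj_siegel, act_siegel]
        have h3 : hermForm n F 2 y₀ (GG A ρ r) = 0 := (hGRd hr).left hy₀
        show y₀ + hermForm n F 2 y₀ (GG A ρ r) • GG A ρ u₀ +
          (ρ μ * hermForm n F 2 y₀ (GG A ρ r) - hermForm n F 2 y₀ (GG A ρ u₀)) • GG A ρ r = _
        rw [h3, mul_zero, zero_smul, zero_sub, neg_self hF, add_zero]
      have := charP_two hF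
      have : Fact (Nat.Prime 2) := ⟨Nat.prime_two⟩
      rcases hS _ (siegel_pow_prime_pow hF 2 hμ) hcw with h3 | h3
      · rw [h3, h1] at h2
        exact add_left_cancel h2
      · rw [h3, act_mul, h1, act_add, act_smul, hy₀, hr.1] at h2
        exact add_left_cancel h2
    apply rho_eq_one
    intro c
    have h1 := key _ hr₀
    have h2 := key _ (hr₀.smul c)
    rw [GG_smul] at h2
    have h3 : ((ρ c - c) * hermForm n F 2 y₀ u₀) • Nw w a = 0 := by
      have h4 : (ρ c * hermForm n F 2 y₀ u₀) • Nw w a = hermForm n F 2 y₀ u₀ • c • Nw w a := by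
        rw [h2, mul_smul, h1, smul_comm]
      rw [sub_mul, sub_smul, h4, smul_smul, mul_comm c, sub_self]
    rcases smul_eq_zero.1 h3 with h4 | h4
    · rcases mul_eq_zero.1 h4 with h5 | h5
      · exact sub_eq_zero.1 h5
      · exact absurd h5 h0
    · exact absurd h4 hNa

end Cfsg.Agent.OddHalf.D4.Un2
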