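import Mathlib
import Cfsg.Agent.OddHalf.D4.Un2.Aut

/-!
# ODD, D4, row `U_n(2)`, `n ≥ 5`: the fact sheet

`sheet : |F| = 2 ^ 2 → 5 ≤ n → Sheet (PSU n F 2)`.
-/

set_option autoImplicit false

namespace Cfsg.Agent.OddHalf.D4.Un2

open Cfsg Cfsg.Agent.LieClassical.HermBasic Cfsg.Agent.LieClassical.HermSiegel
  Cfsg.Agent.ClassicalGeometry.PSUAutBasic Matrix Cfsg.Agent.OddHalf.D4.Spor
open Cfsg.Agent.ClassicalGeometry.PSUAutCount (gm toAut)
open Cfsg.Agent.ClassicalGeometry.PSUAutMain (exists_toAut)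
open Cfsg.Agent.Schreier.PSU (f₁ f₂ toAut_eq mapGU conj_field f₁_eq_conj)
open Cfsg.Agent.OddHalf.Table.OutUSix (ringAut_mul exists_gm)

/-- index of a normal subgroup `I` in `A`, if `I ≤ N`, products of two elements outside `N` are in `N`, and the cubes
of the elements of `N` are in `I` -/
theorem not_four_dvd_index {A : Type*} [Group A] [Finite A] {I N : Subgroup A} [I.Normal] (hIN : I ≤ N)
    (h2 : ∀ a b : A, a ∉ N → b ∉ N → a * b ∈ N) (h3 : ∀ a ∈ N, a ^ 3 ∈ I) : ¬ 4 ∣ I.index := by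
  intro h4
  have hodd : ¬ 2 ∣ I.relIndex N := by
    intro h
    have : Fact (Nat.Prime 2) := ⟨Nat.prime_two⟩
    have hcard : 2 ∣ Nat.card (↥N ⧸ I.subgroupOf N) := h
    obtain ⟨x, hx⟩ := exists_prime_orderOf_dvd_card' 2 hcard
    obtain ⟨⟨a, ha⟩, rfl⟩ := QuotientGroup.mk_surjective x
    have h5 : (QuotientGroup.mk ⟨a, ha⟩ : ↥N ⧸ I.subgroupOf N) ^ 3 = 1 := by
      rw [← QuotientGroup.mk_pow, QuotientGroup.eq_one_iff, Subgroup.mem_subgroupOf]
      exact h3 a ha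
    have h6 := orderOf_dvd_of_pow_eq_one h5
    rw [hx] at h6
    norm_num at h6
  have hidx : N.index = 1 ∨ N.index = 2 := by
    by_cases hN : ∃ a, a ∉ N
    · obtain ⟨a, ha⟩ := hN
      right
      rw [Subgroup.index_eq_two_iff]
      refine ⟨a, fun b => ?_⟩
      by_cases hb : b ∈ N
      · refine Or.inr ⟨hb, fun h => ha ?_⟩
        have h7 := N.mul_mem (N.inv_mem hb) h
        rwa [inv_mul_cancel_left] at h7
      · exact Or.inl ⟨h2 b a hb ha, hb⟩
    · push Not at hN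
      left
      rw [Subgroup.index_eq_one]
      exact eq_top_iff.2 fun a _ => hN a
  rw [← Subgroup.relIndex_mul_index hIN] at h4
  rcases hidx with h5 | h5
  · rw [h5, mul_one] at h4
    exact hodd ((by norm_num : 2 ∣ 4).trans h4)
  · rw [h5] at h4
    apply hodd
    exact (Nat.mul_dvd_mul_iff_right (by norm_num : 0 < 2)).1 (by simpa using h4)

variable {F : Type*} [Field F] [Fintype F] {n : ℕ}

/-- **OUT** -/
theorem out (hF : Fintype.card F = 2 ^ 2) (hn : 5 ≤ n) :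
    ¬ 4 ∣ (MulAut.conj : PSU n F 2 →* MulAut (PSU n F 2)).range.index := by
  have : Finite (MulAut (PSU n F 2)) := inferInstance
  have hN : ((MulAut.conj : PSU n F 2 →* MulAut (PSU n F 2)).range).Normal := by
    refine ⟨?_⟩
    rintro _ ⟨x, rfl⟩ α
    refine ⟨α x, ?_⟩
    ext y
    simp [MulAut.conj_apply]
  refine not_four_dvd_index (N := (f₁ : GU n F 2 →* MulAut (PSU n F 2)).range) ?_ ?_ ?_
  · rintro _ ⟨x, rfl⟩
    obtain ⟨g, rfl⟩ := pr_surjective x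
    obtain ⟨A, hA⟩ := exists_gm g
    exact ⟨A, f₁_eq_conj A g hA⟩
  · have hex : ∀ α : MulAut (PSU n F 2), α ∉ (f₁ : GU n F 2 →* MulAut (PSU n F 2)).range →
        ∃ (A : GU n F 2) (ρ : F ≃+* F), ρ ≠ 1 ∧ α = f₁ A * f₂ ρ := by
      intro α hα
      obtain ⟨A, ρ, h⟩ := exists_toAut hF (by omega) (by omega) α
      rw [toAut_eq] at h
      refine ⟨A, ρ, ?_, h⟩
      rintro rfl
      rw [map_one, mul_one] at h
      exact hα ⟨A, h.symm⟩
    intro a b ha hb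
    obtain ⟨A, ρ, hρ, rfl⟩ := hex a ha
    obtain ⟨B, σ, hσ, rfl⟩ := hex b hb
    have h1 := ringAut_mul hF ρ σ hρ hσ
    refine ⟨A * mapGU ρ B, ?_⟩
    rw [map_mul, ← conj_field]
    have h2 : (f₂ σ : MulAut (PSU n F 2)) = (f₂ ρ)⁻¹ := by
      rw [eq_inv_iff_mul_eq_one, ← map_mul, ringAut_mul hF σ ρ hσ hρ, map_one]
    rw [h2]
    group
  · rintro _ ⟨A, rfl⟩
    obtain ⟨k, hk⟩ := cube_inn hF A
    exact ⟨k, hk.symm⟩

/-- **The fact sheet of `U_n(2)`, `n ≥ 5`.** -/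
theorem sheet (hF : Fintype.card F = 2 ^ 2) (hn : 5 ≤ n) : Sheet (PSU n F 2) where
  out := out hF hn
  schreier := Cfsg.Agent.Schreier.PSU.sch hF (by omega) (by omega)
  sylAut := sylAut hF hn
  z1 := fun S a ha _ ha1 hac b hb _ hb1 hbc => z1 hF (by omega) S a ha ha1 hac b hb hb1 hbc
  bal := bal hF (by omega)
  out2 := fun α h1 h2 w h3 h4 h5 h6 h7 _ _ _ _ _ => out2 hF hn α h1 h2 w h3 h4 h5 h6 h7
  tab := tab_of_not_badB (not_badB hF hn)

end Cfsg.Agent.OddHalf.D4.Un2
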