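import Mathlib
import Cfsg.Agent.OddHalf.D4.Un2.Sheet
import Cfsg.Agent.OddHalf.D4.Spor.Transport
import Cfsg.Agent.OddHalf.D4.Spor.Row

/-!
# ODD, D4: the rows `U_n(2)`, `n ≥ 6`, and `U_5(2)`
-/

set_option autoImplicit false

namespace Cfsg.Agent.OddHalf.D4.Un2

open Cfsg Cfsg.Agent.OddHalf.D4 Cfsg.Agent.OddHalf.D4.Spor

universe u

/-- **D4, `U_n(2)`, `n ≥ 6`.** -/
theorem un2 (h1173 : Start.P1173.{u}) (hFT : FTT.{u}) (hse : PSE.{u}) : Cut.Row1.{u} (fun K _ => Cut.Un2 K) :=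
  row_of_sheet h1173 hFT hse (by
    rintro X _ _ _ ⟨F, _, _, n, hF, hn, ⟨e⟩⟩
    exact (sheet (n := n) (by rw [hF]; norm_num) (by omega)).of_equiv e.symm)

/-- **D4, `U_5(2)`.** -/
theorem u52 (h1173 : Start.P1173.{u}) (hFT : FTT.{u}) (hse : PSE.{u}) : Cut.Row1.{u} (fun K _ => Cut.U52 K) :=
  row_of_sheet h1173 hFT hse (by
    rintro X _ _ _ ⟨F, _, _, hF, ⟨e⟩⟩
    exact (sheet (n := 5) (by rw [hF]; norm_num) le_rfl).of_equiv e.symm)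

end Cfsg.Agent.OddHalf.D4.Un2
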